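import Mathlib
import Cfsg.Agent.Lib.Helper95.FrobCompl
import Cfsg.Agent.Lib.Helper53.PGroups
import Cfsg.Agent.S0033

set_option autoImplicit false

namespace Cfsg.Agent.Lib.Helper66.Camina

variable {G : Type*} [Group G]

/-- The Camina hypothesis on `N`. -/
def Cam (N : Subgroup G) : Prop := ∀ g : G, g ∉ N → ∀ n ∈ N, ∃ x : G, x * g * x⁻¹ = g * n

theorem Cam.orderOf_mul {N : Subgroup G} (hcam : Cam N) {g n : G} (hg : g ∉ N) (hn : n ∈ N) :
    orderOf (g * n) = orderOf g := by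
  obtain ⟨x, hx⟩ := hcam g hg n hn
  have h : SemiconjBy x g (g * n) := by
    unfold SemiconjBy
    rw [← hx]; group
  exact (h.orderOf_eq).symm

theorem Cam.pow_eq_one {N : Subgroup G} (hcam : Cam N) {g n : G} (hg : g ∉ N) (hn : n ∈ N)
    (hc : g * n = n * g) : n ^ orderOf g = 1 := by
  have h1 : (g * n) ^ orderOf g = 1 := by
    rw [← hcam.orderOf_mul hg hn]; exact pow_orderOf_eq_one _
  have h2 : (g * n) ^ orderOf g = g ^ orderOf g * n ^ orderOf g := Commute.mul_pow hc _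
  rw [h2, pow_orderOf_eq_one, one_mul] at h1
  exact h1

theorem Cam.coprime [Finite G] {N : Subgroup G} [N.Normal] (hcam : Cam N)
    (hcop : Nat.Coprime (Nat.card N) N.index) :
    ∀ x ∈ N, x ≠ 1 → Subgroup.centralizer ({x} : Set G) ≤ N := by
  intro x hxN hx1 u hu
  by_contra huN
  rw [Subgroup.mem_centralizer_singleton_iff] at hu
  have hnc : ¬ Nat.Coprime N.index (orderOf u) := by
    intro h
    obtain ⟨m, hm⟩ := exists_pow_eq_self_of_coprime h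
    apply huN
    rw [← hm]
    exact N.pow_mem (Subgroup.pow_index_mem N u) m
  obtain ⟨r, hr, hrI, hru⟩ := Nat.Prime.not_coprime_iff_dvd.mp hnc
  have hvo : orderOf (u ^ (orderOf u / r)) = r :=
    orderOf_pow_orderOf_div (orderOf_pos u).ne' hru
  have hrN : ¬ r ∣ Nat.card N := fun h =>
    hr.one_lt.ne' (Nat.dvd_one.mp (hcop ▸ Nat.dvd_gcd h hrI))
  have hvN : u ^ (orderOf u / r) ∉ N := by
    intro h
    have h1 : orderOf (⟨_, h⟩ : N) ∣ Nat.card N := orderOf_dvd_natCard _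
    rw [Subgroup.orderOf_mk, hvo] at h1
    exact hrN h1
  have hvx : u ^ (orderOf u / r) * x = x * u ^ (orderOf u / r) :=
    ((Commute.pow_left (show Commute u x from hu) _)).eq
  have h1 : x ^ r = 1 := by
    have := hcam.pow_eq_one hvN hxN hvx
    rwa [hvo] at this
  have h2 : x ^ Nat.card N = 1 := by
    have : (⟨x, hxN⟩ : N) ^ Nat.card N = 1 := pow_card_eq_one'
    exact congrArg Subtype.val this
  have h3 : orderOf x ∣ Nat.gcd r (Nat.card N) :=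
    Nat.dvd_gcd (orderOf_dvd_of_pow_eq_one h1) (orderOf_dvd_of_pow_eq_one h2)
  have h4 : Nat.gcd r (Nat.card N) = 1 := (Nat.Prime.coprime_iff_not_dvd hr).mpr hrN
  rw [h4, Nat.dvd_one, orderOf_eq_one_iff] at h3
  exact hx1 h3


/-- In a group, if `u` has order `p^e`, `a` commutes with `u`, `a^(p^e) = 1` and `a ∉ ⟨u⟩`, then
there are two independent commuting elements of order `p`. -/
theorem exists_rank_two {X : Type*} [Group X] (p : ℕ) [Fact p.Prime] (u a : X) (hua : Commute u a)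
    (e : ℕ) (hu : orderOf u = p ^ e) (ha : a ^ (p ^ e) = 1) (hna : a ∉ Subgroup.zpowers u) :
    ∃ x y : X, x * y = y * x ∧ x ^ p = 1 ∧ y ^ p = 1 ∧
      (∀ i j : ℕ, x ^ i * y ^ j = 1 → p ∣ i ∧ p ∣ j) := by
  classical
  have hp : p.Prime := Fact.out
  have he : e ≠ 0 := by
    rintro rfl
    rw [pow_zero, pow_one] at ha
    exact hna (ha ▸ one_mem _)
  obtain ⟨e', rfl⟩ := Nat.exists_eq_succ_of_ne_zero he
  have hex : ∃ k, a ^ (p ^ k) ∈ Subgroup.zpowers u := ⟨e' + 1, ha ▸ one_mem _⟩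
  have hk : a ^ (p ^ (Nat.find hex)) ∈ Subgroup.zpowers u := Nat.find_spec hex
  have hk0 : Nat.find hex ≠ 0 := by
    intro h
    rw [h, pow_zero, pow_one] at hk
    exact hna hk
  obtain ⟨k', hk'⟩ := Nat.exists_eq_succ_of_ne_zero hk0
  have hk'n : a ^ (p ^ k') ∉ Subgroup.zpowers u := Nat.find_min hex (by omega)
  rw [hk'] at hk
  obtain ⟨a₁, ha₁⟩ : ∃ a₁, a₁ = a ^ (p ^ k') := ⟨_, rfl⟩
  rw [← ha₁] at hk'n
  have ha₁p : a₁ ^ p ∈ Subgroup.zpowers u := by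
    rw [ha₁, ← pow_mul, ← pow_succ]; exact hk
  obtain ⟨z, hz⟩ := Subgroup.mem_zpowers_iff.mp ha₁p
  have ha₁e : a₁ ^ (p ^ (e' + 1)) = 1 := by
    rw [ha₁, ← pow_mul, mul_comm, pow_mul, ha, one_pow]
  have hpz : (p : ℤ) ∣ z := by
    have h1 : u ^ (z * ((p ^ e' : ℕ) : ℤ)) = 1 := by
      rw [zpow_mul, hz, zpow_natCast, ← pow_mul, ← pow_succ']; exact ha₁e
    have h2 : ((orderOf u : ℕ) : ℤ) ∣ z * ((p ^ e' : ℕ) : ℤ) := orderOf_dvd_iff_zpow_eq_one.mpr h1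
    rw [hu] at h2
    push_cast at h2
    rw [pow_succ, mul_comm z] at h2
    have hpe : (p : ℤ) ^ e' ≠ 0 := pow_ne_zero _ (by exact_mod_cast hp.ne_zero)
    exact (mul_dvd_mul_iff_left hpe).mp h2
  obtain ⟨z', rfl⟩ := hpz
  have hua₁ : Commute u a₁ := by rw [ha₁]; exact hua.pow_right _
  have hxp : (u ^ (p ^ e')) ^ p = 1 := by
    rw [← pow_mul, ← pow_succ, ← hu, pow_orderOf_eq_one]
  have hx1 : u ^ (p ^ e') ≠ 1 := by
    intro h
    have h1 := orderOf_dvd_of_pow_eq_one h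
    rw [hu] at h1
    have h2 := (Nat.pow_dvd_pow_iff_le_right hp.one_lt).mp h1
    omega
  have hcy : Commute a₁ (u ^ z')⁻¹ := (hua₁.symm.zpow_right z').inv_right
  have hyp : (a₁ * (u ^ z')⁻¹) ^ p = 1 := by
    rw [hcy.mul_pow, inv_pow, ← zpow_natCast (u ^ z'), ← zpow_mul, mul_comm z', hz,
      mul_inv_cancel]
  refine ⟨u ^ (p ^ e'), a₁ * (u ^ z')⁻¹, ?_, hxp, hyp, ?_⟩
  · exact ((hua₁.pow_left _).mul_right
      ((((Commute.refl u).pow_left _).zpow_right z').inv_right)).eq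
  · intro i j hij
    by_cases hpj : p ∣ j
    · refine ⟨?_, hpj⟩
      obtain ⟨j', rfl⟩ := hpj
      rw [pow_mul, hyp, one_pow, mul_one] at hij
      have h1 := orderOf_dvd_of_pow_eq_one hij
      rwa [orderOf_eq_prime hxp hx1] at h1
    · exfalso
      apply hk'n
      have hyj : (a₁ * (u ^ z')⁻¹) ^ j ∈ Subgroup.zpowers u := by
        have h1 : (a₁ * (u ^ z')⁻¹) ^ j = ((u ^ (p ^ e')) ^ i)⁻¹ := eq_inv_of_mul_eq_one_right hij
        rw [h1]
        exact inv_mem (pow_mem (pow_mem (Subgroup.mem_zpowers u) _) _)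
      have hcop : Nat.Coprime j (orderOf (a₁ * (u ^ z')⁻¹)) :=
        Nat.Coprime.coprime_dvd_right (orderOf_dvd_of_pow_eq_one hyp)
          ((Nat.Prime.coprime_iff_not_dvd hp).mpr hpj).symm
      obtain ⟨m, hm⟩ := exists_pow_eq_self_of_coprime hcop
      have hy : a₁ * (u ^ z')⁻¹ ∈ Subgroup.zpowers u := by
        rw [← hm]; exact pow_mem hyj m
      have h2 : a₁ = a₁ * (u ^ z')⁻¹ * u ^ z' := by group
      rw [h2]
      exact mul_mem hy (zpow_mem (Subgroup.mem_zpowers u) z')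

/-- If a subgroup `B` acts fixed-point-freely on the nontrivial normal subgroup `K`, `u ∈ B` has
order `p ^ e`, `B` has exponent dividing `p ^ e`, and `a ∈ B` commutes with `u`, then `a ∈ ⟨u⟩`. -/
theorem mem_zpowers_of_fpf {Q : Type*} [Group Q] [Finite Q] (K : Subgroup Q) [K.Normal]
    (hK : K ≠ ⊥) (p : ℕ) [Fact p.Prime] (B : Subgroup Q)
    (hfpf : ∀ v ∈ B, v ≠ 1 → ∀ k ∈ K, v * k = k * v → k = 1)
    (u a : Q) (hu : u ∈ B) (ha : a ∈ B) (hua : u * a = a * u) (e : ℕ) (hue : orderOf u = p ^ e)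
    (hexp : ∀ b ∈ B, b ^ (p ^ e) = 1) : a ∈ Subgroup.zpowers u := by
  by_contra hna
  have hna' : (⟨a, ha⟩ : B) ∉ Subgroup.zpowers (⟨u, hu⟩ : B) := by
    intro h
    obtain ⟨z, hz⟩ := Subgroup.mem_zpowers_iff.mp h
    apply hna
    rw [Subgroup.mem_zpowers_iff]
    exact ⟨z, by simpa using congrArg Subtype.val hz⟩
  obtain ⟨x, y, hxy, hxp, hyp, hind⟩ := exists_rank_two p (⟨u, hu⟩ : B) ⟨a, ha⟩
    (Subtype.ext hua) e (by rw [Subgroup.orderOf_mk]; exact hue)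
    (Subtype.ext (by simpa using hexp a ha)) hna'
  apply Cfsg.Agent.Lib.Helper95.FrobCompl.no_rank_two K hK p (x : Q) (y : Q)
  · exact congrArg Subtype.val hxy
  · exact congrArg Subtype.val hxp
  · exact congrArg Subtype.val hyp
  · intro i j hij k hk hcomm
    have hne : ((x ^ i * y ^ j : B) : Q) ≠ 1 := by
      intro h
      exact hij (hind i j (Subtype.ext h))
    exact hfpf _ (x ^ i * y ^ j : B).2 hne k hk hcomm

theorem exists_sylow_inf_normal [Finite G] {p : ℕ} [Fact p.Prime] (S : Sylow p G)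
    (L : Subgroup G) [L.Normal] :
    ∃ P : Sylow p ↥L, (P : Subgroup ↥L) = (S : Subgroup G).subgroupOf L := by
  obtain ⟨Q, hQ⟩ := (default : Sylow p ↥L).exists_comap_subtype_eq
  obtain ⟨g, hg⟩ := MulAction.exists_smul_eq G Q S
  refine ⟨(MulAut.conjNormal g : MulAut ↥L) • (default : Sylow p ↥L), ?_⟩
  ext x
  rw [Sylow.pointwise_smul_def, Subgroup.mem_pointwise_smul_iff_inv_smul_mem, ← hQ,
    Subgroup.mem_subgroupOf, ← hg, Subgroup.mem_comap, Sylow.smul_def, Sylow.pointwise_smul_def,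
    Subgroup.mem_pointwise_smul_iff_inv_smul_mem]
  have e : (L.subtype ((MulAut.conjNormal g : MulAut ↥L)⁻¹ • x) : G)
      = (MulAut.conj g)⁻¹ • (x : G) := by
    rw [← map_inv, ← map_inv]
    simp [MulAut.smul_def]
  rw [e]

theorem pelem_of_mem {p : ℕ} [Fact p.Prime] {H : Subgroup G} (hH : IsPGroup p H) {x : G}
    (hx : x ∈ H) : ∃ k, orderOf x = p ^ k := by
  obtain ⟨k, hk⟩ := hH ⟨x, hx⟩
  have h1 : x ^ (p ^ k) = 1 := congrArg Subtype.val hk
  obtain ⟨j, -, hj⟩ := (Nat.dvd_prime_pow Fact.out).mp (orderOf_dvd_of_pow_eq_one h1)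
  exact ⟨j, hj⟩

/-- The preimage in `G` of the centraliser of `gN` in `G/N`. -/
def camD (N : Subgroup G) [hN : N.Normal] (g : G) : Subgroup G where
  carrier := {x | x * g * x⁻¹ * g⁻¹ ∈ N}
  mul_mem' := by
    intro a b ha hb
    have h1 : a * b * g * (a * b)⁻¹ * g⁻¹
        = a * (b * g * b⁻¹ * g⁻¹) * a⁻¹ * (a * g * a⁻¹ * g⁻¹) := by group
    show a * b * g * (a * b)⁻¹ * g⁻¹ ∈ N
    rw [h1]
    exact N.mul_mem (hN.conj_mem _ hb a) ha
  one_mem' := by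
    show 1 * g * 1⁻¹ * g⁻¹ ∈ N
    simp
  inv_mem' := by
    intro a ha
    show a⁻¹ * g * a⁻¹⁻¹ * g⁻¹ ∈ N
    have h1 : a⁻¹ * g * a⁻¹⁻¹ * g⁻¹ = a⁻¹ * (a * g * a⁻¹ * g⁻¹)⁻¹ * a⁻¹⁻¹ := by group
    rw [h1]
    exact hN.conj_mem _ (N.inv_mem ha) a⁻¹

theorem mem_camD {N : Subgroup G} [N.Normal] {g x : G} :
    x ∈ camD N g ↔ x * g * x⁻¹ * g⁻¹ ∈ N := Iff.rfl

theorem le_camD (N : Subgroup G) [hN : N.Normal] (g : G) : N ≤ camD N g := by
  intro x hx
  rw [mem_camD]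
  have h1 : x * g * x⁻¹ * g⁻¹ = x * (g * x⁻¹ * g⁻¹) := by group
  rw [h1]
  exact N.mul_mem hx (hN.conj_mem _ (N.inv_mem hx) g)

theorem centralizer_le_camD (N : Subgroup G) [N.Normal] (g : G) :
    Subgroup.centralizer ({g} : Set G) ≤ camD N g := by
  intro c hc
  rw [Subgroup.mem_centralizer_singleton_iff] at hc
  rw [mem_camD, hc]
  simp

theorem Cam.card_camD [Finite G] {N : Subgroup G} [hN : N.Normal] (hcam : Cam N) {g : G}
    (hg : g ∉ N) :
    Nat.card (camD N g) = Nat.card N * Nat.card (Subgroup.centralizer ({g} : Set G)) := by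
  classical
  choose s hs using fun n : N => hcam g hg n n.2
  have hsD : ∀ n : N, s n ∈ camD N g := by
    intro n
    rw [mem_camD, hs n]
    exact hN.conj_mem _ n.2 g
  have hcD := centralizer_le_camD N g
  have key : ∀ a c : G, c * g = g * c → (a * c) * g * (a * c)⁻¹ = a * g * a⁻¹ := by
    intro a c hc
    rw [mul_assoc a c g, hc]
    group
  let f : ↥N × ↥(Subgroup.centralizer ({g} : Set G)) → ↥(camD N g) :=
    fun x => ⟨s x.1 * x.2, (camD N g).mul_mem (hsD x.1) (hcD x.2.2)⟩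
  have hf : Function.Bijective f := by
    constructor
    · rintro ⟨n₁, c₁⟩ ⟨n₂, c₂⟩ h
      have h1 : s n₁ * (c₁ : G) = s n₂ * (c₂ : G) := congrArg Subtype.val h
      have hc₁ := Subgroup.mem_centralizer_singleton_iff.mp c₁.2
      have hc₂ := Subgroup.mem_centralizer_singleton_iff.mp c₂.2
      have h2 : g * (n₁ : G) = g * (n₂ : G) := by
        calc g * (n₁ : G) = s n₁ * g * (s n₁)⁻¹ := (hs n₁).symm
          _ = (s n₁ * c₁) * g * (s n₁ * c₁)⁻¹ := (key _ _ hc₁).symm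
          _ = (s n₂ * c₂) * g * (s n₂ * c₂)⁻¹ := by rw [h1]
          _ = s n₂ * g * (s n₂)⁻¹ := key _ _ hc₂
          _ = g * (n₂ : G) := hs n₂
      have h3 : n₁ = n₂ := Subtype.ext (mul_left_cancel h2)
      subst h3
      have h4 : c₁ = c₂ := Subtype.ext (mul_left_cancel h1)
      rw [h4]
    · rintro ⟨x, hx⟩
      have hn : g⁻¹ * (x * g * x⁻¹ * g⁻¹) * g ∈ N := by
        have := hN.conj_mem _ (mem_camD.mp hx) g⁻¹
        simpa using this
      obtain ⟨t, ht⟩ : ∃ t, t = s ⟨_, hn⟩ := ⟨_, rfl⟩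
      have h1 : t * g * t⁻¹ = x * g * x⁻¹ := by
        rw [ht, hs ⟨_, hn⟩]
        group
      have hc : t⁻¹ * x ∈ Subgroup.centralizer ({g} : Set G) := by
        rw [Subgroup.mem_centralizer_singleton_iff]
        have h2 : t⁻¹ * x * g = t⁻¹ * (x * g * x⁻¹) * x := by group
        rw [h2, ← h1]
        group
      refine ⟨(⟨_, hn⟩, ⟨_, hc⟩), Subtype.ext ?_⟩
      show s ⟨_, hn⟩ * (t⁻¹ * x) = x
      rw [← ht]
      group
  rw [← Nat.card_prod]
  exact (Nat.card_congr (Equiv.ofBijective f hf)).symm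

/-- Fixed-point-freeness modulo `P₀`: a `p`-element `v ∉ N` normalising the Sylow `p`-subgroup
`P₀` of `N` has no nontrivial fixed points on `N_N(P₀)/P₀`. -/
theorem Cam.fpf_mod [Finite G] {N : Subgroup G} [N.Normal] (hcam : Cam N) (p : ℕ) [Fact p.Prime]
    (P₀ : Subgroup G) (hP₀N : P₀ ≤ N) (hP₀ : IsPGroup p P₀)
    (hmax : ∀ R : Subgroup G, IsPGroup p R → R ≤ N → P₀ ≤ R → R ≤ P₀)
    (v : ↥(Subgroup.normalizer (P₀ : Set G))) (hvN : (v : G) ∉ N)
    (hvp : ∃ k, orderOf (v : G) = p ^ k)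
    (w : ↥(Subgroup.normalizer (P₀ : Set G))) (hwN : (w : G) ∈ N)
    (hvw : (QuotientGroup.mk' (P₀.subgroupOf (Subgroup.normalizer (P₀ : Set G)))) v
        * (QuotientGroup.mk' (P₀.subgroupOf (Subgroup.normalizer (P₀ : Set G)))) w
      = (QuotientGroup.mk' (P₀.subgroupOf (Subgroup.normalizer (P₀ : Set G)))) w
        * (QuotientGroup.mk' (P₀.subgroupOf (Subgroup.normalizer (P₀ : Set G)))) v) :
    (w : G) ∈ P₀ := by
  obtain ⟨k, hk⟩ := hvp
  obtain ⟨π, hπ⟩ : ∃ π, π = QuotientGroup.mk' (P₀.subgroupOf (Subgroup.normalizer (P₀ : Set G))) :=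
    ⟨_, rfl⟩
  rw [← hπ] at hvw
  have h1 : ((v : G) * (w : G)) ^ (p ^ k) = 1 := by
    rw [← hk, ← hcam.orderOf_mul hvN hwN]
    exact pow_orderOf_eq_one _
  have h2 : (v * w) ^ (p ^ k) = 1 := Subtype.ext (by simpa using h1)
  have h3 : v ^ (p ^ k) = 1 := Subtype.ext (by simp [← hk, pow_orderOf_eq_one])
  have h4 : (π v * π w) ^ (p ^ k) = 1 := by rw [← map_mul, ← map_pow, h2, map_one]
  have h5 : (π v * π w) ^ (p ^ k) = π v ^ (p ^ k) * π w ^ (p ^ k) := Commute.mul_pow hvw _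
  rw [h5, ← map_pow, h3, map_one, one_mul, ← map_pow] at h4
  have h6 : (w : G) ^ (p ^ k) ∈ P₀ := by
    rw [hπ] at h4
    have h := (QuotientGroup.eq_one_iff _).mp h4
    rw [Subgroup.mem_subgroupOf] at h
    simpa using h
  have hwp : IsPGroup p (Subgroup.zpowers (w : G)) := by
    obtain ⟨j, hj⟩ := hP₀ ⟨_, h6⟩
    have h7 : (w : G) ^ (p ^ (k + j)) = 1 := by
      have h := congrArg Subtype.val hj
      rw [pow_add, pow_mul]
      simpa using h
    rintro ⟨x, hx⟩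
    obtain ⟨z, rfl⟩ := Subgroup.mem_zpowers_iff.mp hx
    refine ⟨k + j, Subtype.ext ?_⟩
    show ((w : G) ^ z) ^ (p ^ (k + j)) = 1
    rw [← zpow_natCast, ← zpow_mul, mul_comm, zpow_mul, zpow_natCast, h7, one_zpow]
  have hsup : IsPGroup p (Subgroup.zpowers (w : G) ⊔ P₀ : Subgroup G) :=
    hwp.to_sup_of_normal_right' hP₀ (Subgroup.zpowers_le.mpr w.2)
  have h8 := hmax _ hsup (sup_le (Subgroup.zpowers_le.mpr hwN) hP₀N) le_sup_right
  exact h8 ((le_sup_left : Subgroup.zpowers (w : G) ≤ _) (Subgroup.mem_zpowers _))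

theorem isPGroup_zpowers {X : Type*} [Group X] {p : ℕ} {x : X} {k : ℕ} (hx : x ^ (p ^ k) = 1) :
    IsPGroup p (Subgroup.zpowers x) := by
  rintro ⟨y, hy⟩
  obtain ⟨z, rfl⟩ := Subgroup.mem_zpowers_iff.mp hy
  refine ⟨k, Subtype.ext ?_⟩
  show (x ^ z) ^ (p ^ k) = 1
  rw [← zpow_natCast, ← zpow_mul, mul_comm, zpow_mul, zpow_natCast, hx, one_zpow]

/-- If `p` divides both `|N|` and `|G : N|` for a Camina pair `(G, N)`, then some Sylow
`p`-subgroup `P` of `G` has `P ∩ N` self-normalising in `N`. -/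
theorem Cam.exists_sylow_self_normalizing [Finite G] {N : Subgroup G} [hN : N.Normal]
    (hcam : Cam N) (p : ℕ) [Fact p.Prime] (hpN : p ∣ Nat.card N) (hpI : p ∣ N.index) :
    ∃ P : Sylow p G,
      N ⊓ Subgroup.normalizer (((P : Subgroup G) ⊓ N : Subgroup G) : Set G)
        ≤ (P : Subgroup G) ⊓ N := by
  classical
  have hp : p.Prime := Fact.out
  obtain ⟨ordN, hordN⟩ : ∃ ordN : G → ℕ,
      ordN = fun x => orderOf (QuotientGroup.mk x : G ⧸ N) := ⟨_, rfl⟩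
  have hord_iff : ∀ (x : G) (n : ℕ), ordN x ∣ n ↔ x ^ n ∈ N := by
    intro x n
    rw [hordN]
    show orderOf (QuotientGroup.mk x : G ⧸ N) ∣ n ↔ _
    rw [orderOf_dvd_iff_pow_eq_one, ← QuotientGroup.mk_pow, QuotientGroup.eq_one_iff]
  have hord_pos : ∀ x : G, 0 < ordN x := by
    intro x
    rw [hordN]
    exact orderOf_pos _
  obtain ⟨b₀, hb₀p, hb₀N⟩ : ∃ b : G, (∃ k, orderOf b = p ^ k) ∧ b ∉ N := by
    obtain P₁ : Sylow p G := default
    by_contra hcon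
    push Not at hcon
    have hle : (P₁ : Subgroup G) ≤ N := fun b hb => hcon b (pelem_of_mem P₁.isPGroup' hb)
    exact P₁.not_dvd_index (hpI.trans (Subgroup.index_dvd_of_le hle))
  obtain ⟨u, hup, humax⟩ : ∃ u : G, (∃ k, orderOf u = p ^ k) ∧
      ∀ b : G, (∃ k, orderOf b = p ^ k) → ordN b ≤ ordN u := by
    have hne : Nonempty {x : G // ∃ k, orderOf x = p ^ k} := ⟨⟨b₀, hb₀p⟩⟩
    obtain ⟨u, hu⟩ := Finite.exists_max (fun x : {x : G // ∃ k, orderOf x = p ^ k} => ordN x.1)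
    exact ⟨u.1, u.2, fun b hb => hu ⟨b, hb⟩⟩
  have hordp : ∀ b : G, (∃ k, orderOf b = p ^ k) → ∃ j, ordN b = p ^ j := by
    rintro b ⟨k, hk⟩
    have h1 : ordN b ∣ p ^ k := by
      rw [hord_iff, ← hk, pow_orderOf_eq_one]
      exact N.one_mem
    obtain ⟨j, -, hj⟩ := (Nat.dvd_prime_pow hp).mp h1
    exact ⟨j, hj⟩
  obtain ⟨e, he⟩ := hordp u hup
  have hexpN : ∀ b : G, (∃ k, orderOf b = p ^ k) → b ^ (p ^ e) ∈ N := by
    intro b hb
    obtain ⟨j, hj⟩ := hordp b hb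
    rw [← hord_iff, hj]
    have h1 := humax b hb
    rw [hj, he] at h1
    exact pow_dvd_pow p ((Nat.pow_le_pow_iff_right hp.one_lt).mp h1)
  have huN : u ∉ N := by
    intro h
    have h1 : ordN u ∣ 1 := by
      rw [hord_iff, pow_one]
      exact h
    have h2 : ordN b₀ ≤ ordN u := humax b₀ hb₀p
    rw [Nat.dvd_one.mp h1] at h2
    have h3 : ordN b₀ ∣ 1 := by
      have h4 := hord_pos b₀
      have h5 : ordN b₀ = 1 := by omega
      rw [h5]
    rw [hord_iff, pow_one] at h3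
    exact hb₀N h3
  have huD : u ∈ camD N u := by
    rw [mem_camD]
    simp
  have hzp : IsPGroup p (Subgroup.zpowers (⟨u, huD⟩ : ↥(camD N u))) := by
    obtain ⟨k, hk⟩ := hup
    apply isPGroup_zpowers (k := k)
    apply Subtype.ext
    show u ^ (p ^ k) = 1
    rw [← hk, pow_orderOf_eq_one]
  obtain ⟨S₀, hS₀⟩ := hzp.exists_le_sylow
  obtain ⟨P, hP⟩ := S₀.exists_comap_subtype_eq
  have hmemS₀ : ∀ (x : G) (hx : x ∈ camD N u),
      (⟨x, hx⟩ : ↥(camD N u)) ∈ S₀ ↔ x ∈ (P : Subgroup G) := by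
    intro x hx
    have h1 : (⟨x, hx⟩ : ↥(camD N u)) ∈ (S₀ : Subgroup ↥(camD N u)) ↔ x ∈ (P : Subgroup G) := by
      rw [← hP]
      rfl
    exact h1
  have huP : u ∈ (P : Subgroup G) := (hmemS₀ u huD).mp (hS₀ (Subgroup.mem_zpowers _))
  refine ⟨P, ?_⟩
  obtain ⟨P₀, hP₀def⟩ : ∃ P₀ : Subgroup G, P₀ = (P : Subgroup G) ⊓ N := ⟨_, rfl⟩
  rw [← hP₀def]
  have hP₀N : P₀ ≤ N := hP₀def ▸ inf_le_right
  have hP₀P : P₀ ≤ (P : Subgroup G) := hP₀def ▸ inf_le_left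
  have hmemP₀ : ∀ x, x ∈ P₀ ↔ x ∈ (P : Subgroup G) ∧ x ∈ N := by
    intro x
    rw [hP₀def]
    exact Subgroup.mem_inf
  have hP₀p : IsPGroup p P₀ := P.isPGroup'.to_le hP₀P
  obtain ⟨P₀', hP₀'⟩ := exists_sylow_inf_normal P N
  have hmax : ∀ R : Subgroup G, IsPGroup p R → R ≤ N → P₀ ≤ R → R ≤ P₀ := by
    intro R hR hRN hPR x hx
    have h1 : (P₀' : Subgroup ↥N) ≤ R.subgroupOf N := by
      intro y hy
      rw [hP₀'] at hy
      rw [Subgroup.mem_subgroupOf] at hy ⊢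
      exact hPR ((hmemP₀ _).mpr ⟨hy, y.2⟩)
    have h2 : R.subgroupOf N = P₀' := P₀'.3 hR.comap_subtype h1
    have h3 : (⟨x, hRN hx⟩ : ↥N) ∈ R.subgroupOf N := Subgroup.mem_subgroupOf.mpr hx
    rw [h2, hP₀', Subgroup.mem_subgroupOf] at h3
    exact (hmemP₀ x).mpr ⟨h3, hRN hx⟩
  have hP₀ne : P₀ ≠ ⊥ := by
    intro h
    have h1 : (P₀' : Subgroup ↥N) = ⊥ := by
      rw [hP₀', Subgroup.subgroupOf_eq_bot, disjoint_iff, ← hP₀def]
      exact h
    exact P₀'.ne_bot_of_dvd_card hpN h1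
  have hPT : (P : Subgroup G) ≤ Subgroup.normalizer (P₀ : Set G) := by
    intro x hx
    rw [Subgroup.mem_normalizer_iff]
    intro y
    rw [hmemP₀, hmemP₀]
    constructor
    · rintro ⟨h1, h2⟩
      exact ⟨mul_mem (mul_mem hx h1) (inv_mem hx), hN.conj_mem _ h2 x⟩
    · rintro ⟨h1, h2⟩
      refine ⟨?_, ?_⟩
      · have h3 : y = x⁻¹ * (x * y * x⁻¹) * x := by group
        rw [h3]
        exact mul_mem (mul_mem (inv_mem hx) h1) hx
      · have h3 : y = x⁻¹ * (x * y * x⁻¹) * x⁻¹⁻¹ := by group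
        rw [h3]
        exact hN.conj_mem _ h2 x⁻¹
  intro w hw
  by_contra hwP₀
  obtain ⟨hwN, hwT⟩ := Subgroup.mem_inf.mp hw
  obtain ⟨π, hπ⟩ : ∃ π, π = QuotientGroup.mk' (P₀.subgroupOf (Subgroup.normalizer (P₀ : Set G))) :=
    ⟨_, rfl⟩
  have hπ1 : ∀ t : ↥(Subgroup.normalizer (P₀ : Set G)), π t = 1 ↔ (t : G) ∈ P₀ := by
    intro t
    rw [hπ]
    exact (QuotientGroup.eq_one_iff _).trans Subgroup.mem_subgroupOf
  have hπs : Function.Surjective π := by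
    rw [hπ]
    exact QuotientGroup.mk'_surjective _
  obtain ⟨K, hKdef⟩ : ∃ K, K = (N.subgroupOf (Subgroup.normalizer (P₀ : Set G))).map π := ⟨_, rfl⟩
  have hKn : K.Normal := by
    rw [hKdef]
    exact Subgroup.Normal.map inferInstance π hπs
  have hK : K ≠ ⊥ := by
    intro h
    have h1 : π ⟨w, hwT⟩ ∈ K := by
      rw [hKdef]
      exact Subgroup.mem_map_of_mem π (Subgroup.mem_subgroupOf.mpr hwN)
    rw [h, Subgroup.mem_bot, hπ1] at h1
    exact hwP₀ h1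
  obtain ⟨B, hBdef⟩ :
      ∃ B, B = ((P : Subgroup G).subgroupOf (Subgroup.normalizer (P₀ : Set G))).map π := ⟨_, rfl⟩
  have hfpf : ∀ v ∈ B, v ≠ 1 → ∀ k ∈ K, v * k = k * v → k = 1 := by
    intro v hv hv1 k hk hvk
    rw [hBdef] at hv
    rw [hKdef] at hk
    obtain ⟨v₀, hv₀, rfl⟩ := hv
    obtain ⟨w₀, hw₀, rfl⟩ := hk
    have hv₀' : (v₀ : G) ∈ (P : Subgroup G) := Subgroup.mem_subgroupOf.mp hv₀
    have hw₀' : (w₀ : G) ∈ N := Subgroup.mem_subgroupOf.mp hw₀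
    have hv₀N : (v₀ : G) ∉ N := fun h => hv1 ((hπ1 v₀).mpr ((hmemP₀ _).mpr ⟨hv₀', h⟩))
    have h1 := hcam.fpf_mod p P₀ hP₀N hP₀p hmax v₀ hv₀N (pelem_of_mem P.isPGroup' hv₀') w₀ hw₀'
      (by rw [← hπ]; exact hvk)
    exact (hπ1 w₀).mpr h1
  have huB : π ⟨u, hPT huP⟩ ∈ B := by
    rw [hBdef]
    exact Subgroup.mem_map_of_mem π (Subgroup.mem_subgroupOf.mpr huP)
  have hue : orderOf (π ⟨u, hPT huP⟩) = p ^ e := by
    rw [← he]
    apply Nat.dvd_antisymm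
    · rw [orderOf_dvd_iff_pow_eq_one, ← map_pow, hπ1]
      exact (hmemP₀ _).mpr ⟨pow_mem huP _, (hord_iff u _).mp dvd_rfl⟩
    · rw [hord_iff]
      have h1 : (π ⟨u, hPT huP⟩) ^ orderOf (π ⟨u, hPT huP⟩) = 1 := pow_orderOf_eq_one _
      rw [← map_pow, hπ1] at h1
      exact hP₀N h1
  have hexp : ∀ b ∈ B, b ^ (p ^ e) = 1 := by
    intro b hb
    rw [hBdef] at hb
    obtain ⟨b₀', hb₀', rfl⟩ := hb
    have hb₀'' : (b₀' : G) ∈ (P : Subgroup G) := Subgroup.mem_subgroupOf.mp hb₀'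
    rw [← map_pow, hπ1]
    exact (hmemP₀ _).mpr ⟨pow_mem hb₀'' _, hexpN _ (pelem_of_mem P.isPGroup' hb₀'')⟩
  have hA : ∀ a ∈ (P : Subgroup G), a ∈ camD N u → ∃ z : ℤ, (u ^ z)⁻¹ * a ∈ P₀ := by
    intro a haP haD
    have haB : π ⟨a, hPT haP⟩ ∈ B := by
      rw [hBdef]
      exact Subgroup.mem_map_of_mem π (Subgroup.mem_subgroupOf.mpr haP)
    have hcomm : π ⟨u, hPT huP⟩ * π ⟨a, hPT haP⟩ = π ⟨a, hPT haP⟩ * π ⟨u, hPT huP⟩ := by
      have h1 : a * u * a⁻¹ * u⁻¹ ∈ P₀ :=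
        (hmemP₀ _).mpr ⟨mul_mem (mul_mem (mul_mem haP huP) (inv_mem haP)) (inv_mem huP),
          mem_camD.mp haD⟩
      have h2 : π ((⟨a, hPT haP⟩ : ↥(Subgroup.normalizer (P₀ : Set G))) * ⟨u, hPT huP⟩
          * (⟨a, hPT haP⟩ : ↥(Subgroup.normalizer (P₀ : Set G)))⁻¹
          * (⟨u, hPT huP⟩ : ↥(Subgroup.normalizer (P₀ : Set G)))⁻¹) = 1 := (hπ1 _).mpr h1
      rw [map_mul, map_mul, map_mul, map_inv, map_inv] at h2
      have h3 := mul_inv_eq_one.mp h2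
      have h4 := mul_inv_eq_iff_eq_mul.mp h3
      exact h4.symm
    have hmem := mem_zpowers_of_fpf K hK p B hfpf _ _ huB haB hcomm e hue hexp
    obtain ⟨z, hz⟩ := Subgroup.mem_zpowers_iff.mp hmem
    refine ⟨z, ?_⟩
    have h5 : π (((⟨u, hPT huP⟩ : ↥(Subgroup.normalizer (P₀ : Set G))) ^ z)⁻¹ * ⟨a, hPT haP⟩) = 1 := by
      rw [map_mul, map_inv, map_zpow, hz, inv_mul_cancel]
    exact (hπ1 _).mp h5
  obtain ⟨c, hcP₀, hc1, hcc⟩ := Cfsg.Agent.Lib.Helper53.exists_mem_center_of_normal_subgroup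
    P.isPGroup' hP₀P hPT hP₀ne
  have hcu : c * u = u * c := (hcc u huP).symm
  have hdiv : Nat.card ↥(Subgroup.centralizer ({u} : Set G) ⊓ (P : Subgroup G)) * Nat.card P₀
      ∣ Nat.card S₀ := by
    have h1 : Nat.card ↥(Subgroup.centralizer ({u} : Set G) ⊓ (P : Subgroup G))
        ∣ Nat.card (Subgroup.centralizer ({u} : Set G)) := Subgroup.card_dvd_of_le inf_le_left
    have h2 : Nat.card P₀ ∣ Nat.card N := Subgroup.card_dvd_of_le hP₀N
    have h3 := hcam.card_camD huN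
    have h4 : Nat.card S₀ * (S₀ : Subgroup ↥(camD N u)).index = Nat.card ↥(camD N u) :=
      Subgroup.card_mul_index _
    have h5 : Nat.card ↥(Subgroup.centralizer ({u} : Set G) ⊓ (P : Subgroup G)) * Nat.card P₀
        ∣ Nat.card S₀ * (S₀ : Subgroup ↥(camD N u)).index := by
      rw [h4, h3, mul_comm (Nat.card N)]
      exact mul_dvd_mul h1 h2
    obtain ⟨i, hi⟩ := IsPGroup.iff_card.mp
      (P.isPGroup'.to_le (inf_le_right : Subgroup.centralizer ({u} : Set G) ⊓ (P : Subgroup G) ≤ P))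
    obtain ⟨j, hj⟩ := IsPGroup.iff_card.mp hP₀p
    have hcop : Nat.Coprime
        (Nat.card ↥(Subgroup.centralizer ({u} : Set G) ⊓ (P : Subgroup G)) * Nat.card P₀)
        (S₀ : Subgroup ↥(camD N u)).index := by
      rw [hi, hj, ← pow_add]
      exact Nat.Coprime.pow_left _ ((Nat.Prime.coprime_iff_not_dvd hp).mpr S₀.not_dvd_index)
    exact hcop.dvd_of_dvd_mul_right h5
  have hfD : ∀ x : ↥(Subgroup.centralizer ({u} : Set G) ⊓ (P : Subgroup G)) × ↥P₀,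
      (x.1 : G) * (x.2 : G) ∈ camD N u := fun x =>
    mul_mem (centralizer_le_camD N u (Subgroup.mem_inf.mp x.1.2).1) (le_camD N u (hP₀N x.2.2))
  let f : ↥(Subgroup.centralizer ({u} : Set G) ⊓ (P : Subgroup G)) × ↥P₀ → ↥S₀ := fun x =>
    ⟨⟨(x.1 : G) * (x.2 : G), hfD x⟩,
      (hmemS₀ _ _).mpr (mul_mem (Subgroup.mem_inf.mp x.1.2).2 (hP₀P x.2.2))⟩
  have hfs : Function.Surjective f := by
    rintro ⟨⟨s, hsD⟩, hsS⟩
    have hsP : s ∈ (P : Subgroup G) := (hmemS₀ s hsD).mp hsS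
    obtain ⟨z, hz⟩ := hA s hsP hsD
    have huz : u ^ z ∈ Subgroup.centralizer ({u} : Set G) ⊓ (P : Subgroup G) := by
      refine Subgroup.mem_inf.mpr ⟨?_, zpow_mem huP z⟩
      rw [Subgroup.mem_centralizer_singleton_iff]
      exact ((Commute.refl u).zpow_left z).eq
    refine ⟨(⟨u ^ z, huz⟩, ⟨(u ^ z)⁻¹ * s, hz⟩), ?_⟩
    apply Subtype.ext
    apply Subtype.ext
    show u ^ z * ((u ^ z)⁻¹ * s) = s
    group
  have hfb : Function.Bijective f := hfs.bijective_of_nat_card_le (by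
    rw [Nat.card_prod]
    exact Nat.le_of_dvd Nat.card_pos hdiv)
  have hcC : c ∈ Subgroup.centralizer ({u} : Set G) ⊓ (P : Subgroup G) :=
    Subgroup.mem_inf.mpr ⟨Subgroup.mem_centralizer_singleton_iff.mpr hcu, hP₀P hcP₀⟩
  have h := hfb.1 (a₁ := (⟨c, hcC⟩, ⟨c⁻¹, inv_mem hcP₀⟩)) (a₂ := (1, 1)) (by
    apply Subtype.ext
    apply Subtype.ext
    show c * c⁻¹ = 1 * 1
    simp)
  have h' : c = 1 := congrArg (fun x => (x.1 : G)) h
  exact hc1 h'

/-- If two distinct primes `p`, `r` divide `|G : N|` and `p` divides `|N|` for a Camina pair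
`(G, N)`, then `N` is a `p`-group. -/
theorem Cam.card_prime_pow [Finite G] {N : Subgroup G} [hN : N.Normal] (hN1 : N ≠ ⊥)
    (hcam : Cam N) (p r : ℕ) [Fact p.Prime] (hr : r.Prime) (hrp : r ≠ p)
    (hpN : p ∣ Nat.card N) (hpI : p ∣ N.index) (hrI : r ∣ N.index) :
    IsPrimePow (Nat.card N) := by
  classical
  have hp : p.Prime := Fact.out
  obtain ⟨P, hself⟩ := hcam.exists_sylow_self_normalizing p hpN hpI
  obtain ⟨P₀, hP₀def⟩ : ∃ P₀ : Subgroup G, P₀ = (P : Subgroup G) ⊓ N := ⟨_, rfl⟩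
  rw [← hP₀def] at hself
  have hP₀N : P₀ ≤ N := hP₀def ▸ inf_le_right
  have hP₀p : IsPGroup p P₀ := P.isPGroup'.to_le (hP₀def ▸ inf_le_left)
  obtain ⟨P₀', hP₀'⟩ := exists_sylow_inf_normal P N
  have hmap : (P₀' : Subgroup ↥N).map N.subtype = P₀ := by
    rw [hP₀', Subgroup.subgroupOf_map_subtype, hP₀def]
  have hfrat : Subgroup.normalizer (P₀ : Set G) ⊔ N = ⊤ := by
    have h1 := Sylow.normalizer_sup_eq_top P₀'
    rwa [hmap] at h1
  have hrT : r ∣ Nat.card ↥(Subgroup.normalizer (P₀ : Set G)) := by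
    have h1 : N.relIndex (Subgroup.normalizer (P₀ : Set G)) = N.index := by
      rw [← Subgroup.relIndex_sup_left (K := N) (H := Subgroup.normalizer (P₀ : Set G)), sup_comm,
        hfrat, Subgroup.relIndex_top_right]
    have h2 : N.relIndex (Subgroup.normalizer (P₀ : Set G))
        ∣ Nat.card ↥(Subgroup.normalizer (P₀ : Set G)) := Subgroup.index_dvd_card _
    rw [h1] at h2
    exact hrI.trans h2
  have : Fact r.Prime := ⟨hr⟩
  obtain ⟨h₀, hh₀⟩ := exists_prime_orderOf_dvd_card' r hrT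
  obtain ⟨h, hhT, hho⟩ : ∃ h : G, h ∈ Subgroup.normalizer (P₀ : Set G) ∧ orderOf h = r :=
    ⟨h₀, h₀.2, by rw [Subgroup.orderOf_coe]; exact hh₀⟩
  have hpr : ¬ p ∣ r := fun h1 => hrp ((Nat.prime_dvd_prime_iff_eq hp hr).mp h1).symm
  have hhN : h ∉ N := by
    intro hh
    have h1 : h ∈ P₀ := hself (Subgroup.mem_inf.mpr ⟨hh, hhT⟩)
    obtain ⟨k, hk⟩ := pelem_of_mem hP₀p h1
    rw [hho] at hk
    rcases Nat.eq_zero_or_pos k with rfl | hk0
    · rw [pow_zero] at hk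
      exact hr.one_lt.ne' hk
    · apply hpr
      rw [hk]
      exact dvd_pow_self p hk0.ne'
  have hfix0 : ∀ c ∈ P₀, h * c = c * h → c = 1 := by
    intro c hc hcomm
    have h1 : c ^ r = 1 := by
      have h2 := hcam.pow_eq_one hhN (hP₀N hc) hcomm
      rwa [hho] at h2
    obtain ⟨k, hk⟩ := pelem_of_mem hP₀p hc
    have h2 : orderOf c ∣ r := orderOf_dvd_of_pow_eq_one h1
    rw [hk] at h2
    rcases Nat.eq_zero_or_pos k with rfl | hk0
    · rw [pow_zero] at hk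
      exact orderOf_eq_one_iff.mp hk
    · exact absurd ((dvd_pow_self p hk0.ne').trans h2) hpr
  have htrans0 : ∀ c ∈ P₀, ∃ y ∈ P₀, y * h * y⁻¹ = h * c := by
    have hnorm : ∀ y ∈ P₀, h⁻¹ * y * h ∈ P₀ := fun y hy =>
      (Subgroup.mem_normalizer_iff''.mp hhT y).mp hy
    let φ : ↥P₀ → ↥P₀ := fun y =>
      ⟨h⁻¹ * (y : G) * h * (y : G)⁻¹, mul_mem (hnorm y y.2) (inv_mem y.2)⟩
    have hφi : Function.Injective φ := by
      intro y₁ y₂ hy
      have h1 : h⁻¹ * (y₁ : G) * h * (y₁ : G)⁻¹ = h⁻¹ * (y₂ : G) * h * (y₂ : G)⁻¹ :=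
        congrArg Subtype.val hy
      have h3 : (y₁ : G) * h * (y₁ : G)⁻¹ = (y₂ : G) * h * (y₂ : G)⁻¹ := by
        have h4 := congrArg (fun t => h * t) h1
        simpa [mul_assoc] using h4
      have h2 : h * ((y₂ : G)⁻¹ * (y₁ : G)) = ((y₂ : G)⁻¹ * (y₁ : G)) * h := by
        calc h * ((y₂ : G)⁻¹ * (y₁ : G))
            = (y₂ : G)⁻¹ * ((y₂ : G) * h * (y₂ : G)⁻¹) * (y₁ : G) := by group
          _ = (y₂ : G)⁻¹ * ((y₁ : G) * h * (y₁ : G)⁻¹) * (y₁ : G) := by rw [h3]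
          _ = ((y₂ : G)⁻¹ * (y₁ : G)) * h := by group
      have h4 := hfix0 _ (mul_mem (inv_mem y₂.2) y₁.2) h2
      exact Subtype.ext (inv_mul_eq_one.mp h4).symm
    have hφs : Function.Surjective φ := Finite.injective_iff_surjective.mp hφi
    intro c hc
    obtain ⟨y, hy⟩ := hφs ⟨c, hc⟩
    refine ⟨y, y.2, ?_⟩
    have h1 : h⁻¹ * (y : G) * h * (y : G)⁻¹ = c := congrArg Subtype.val hy
    rw [← h1]
    group
  have htransN : ∀ n ∈ N, ∃ x ∈ N, x * h * x⁻¹ = h * n := by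
    intro n hn
    obtain ⟨x, hx⟩ := hcam h hhN n hn
    obtain ⟨n₁, hn₁, t₀, ht₀, rfl⟩ := (Subgroup.mem_sup_of_normal_left (s := N)
      (t := Subgroup.normalizer (P₀ : Set G))).mp (by
        rw [sup_comm, hfrat]
        exact Subgroup.mem_top x)
    have hcN : h⁻¹ * (t₀ * h * t₀⁻¹) ∈ N := by
      have h1 : h⁻¹ * (t₀ * h * t₀⁻¹) = (h⁻¹ * n₁⁻¹ * h⁻¹⁻¹) * n * n₁ := by
        have h2 : t₀ * h * t₀⁻¹ = n₁⁻¹ * (n₁ * t₀ * h * (n₁ * t₀)⁻¹) * n₁ := by group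
        rw [h2, hx]
        group
      rw [h1]
      exact mul_mem (mul_mem (hN.conj_mem _ (inv_mem hn₁) h⁻¹) hn) hn₁
    have hcT : h⁻¹ * (t₀ * h * t₀⁻¹) ∈ Subgroup.normalizer (P₀ : Set G) :=
      mul_mem (inv_mem hhT) (mul_mem (mul_mem ht₀ hhT) (inv_mem ht₀))
    obtain ⟨y, hy, hyh⟩ := htrans0 _ (hself (Subgroup.mem_inf.mpr ⟨hcN, hcT⟩))
    refine ⟨n₁ * y, mul_mem hn₁ (hP₀N hy), ?_⟩
    rw [← hx]
    have h3 : y * h * y⁻¹ = t₀ * h * t₀⁻¹ := by
      rw [hyh]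
      group
    calc n₁ * y * h * (n₁ * y)⁻¹ = n₁ * (y * h * y⁻¹) * n₁⁻¹ := by group
      _ = n₁ * (t₀ * h * t₀⁻¹) * n₁⁻¹ := by rw [h3]
      _ = n₁ * t₀ * h * (n₁ * t₀)⁻¹ := by group
  have hfixN : ∀ n ∈ N, h * n = n * h → n = 1 := by
    let ψ : ↥N → ↥N := fun x => ⟨h⁻¹ * ((x : G) * h * (x : G)⁻¹), by
      have h1 : h⁻¹ * ((x : G) * h * (x : G)⁻¹) = (h⁻¹ * (x : G) * h⁻¹⁻¹) * (x : G)⁻¹ := by group
      rw [h1]
      exact mul_mem (hN.conj_mem _ x.2 h⁻¹) (inv_mem x.2)⟩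
    have hψs : Function.Surjective ψ := by
      rintro ⟨n, hn⟩
      obtain ⟨x, hx, hxh⟩ := htransN n hn
      refine ⟨⟨x, hx⟩, Subtype.ext ?_⟩
      show h⁻¹ * (x * h * x⁻¹) = n
      rw [hxh]
      group
    have hψi : Function.Injective ψ := Finite.injective_iff_surjective.mpr hψs
    intro n hn hcomm
    have h1 : ψ ⟨n, hn⟩ = ψ 1 := by
      apply Subtype.ext
      show h⁻¹ * (n * h * n⁻¹) = h⁻¹ * ((1 : G) * h * (1 : G)⁻¹)
      rw [← hcomm]
      group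
    exact congrArg Subtype.val (hψi h1)
  obtain ⟨φ, hφ⟩ : ∃ φ : ↥N ≃* ↥N, φ = MulAut.conjNormal h := ⟨_, rfl⟩
  have hφapp : ∀ x : ↥N, ((φ x : ↥N) : G) = h * x * h⁻¹ := by
    intro x
    rw [hφ]
    exact MulAut.conjNormal_apply h x
  have hfpf : MonoidHom.FixedPointFree (φ : ↥N →* ↥N) := by
    intro x hx
    have h1 : h * (x : G) * h⁻¹ = x := (hφapp x).symm.trans (congrArg Subtype.val hx)
    have h2 : h * (x : G) = x * h := by
      have h3 := congrArg (fun t => t * h) h1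
      simpa using h3
    exact Subtype.ext (hfixN x x.2 h2)
  have hord : orderOf φ = r := by
    apply orderOf_eq_prime
    · rw [hφ, ← map_pow, ← hho, pow_orderOf_eq_one, map_one]
    · intro h1
      apply hN1
      rw [Subgroup.eq_bot_iff_forall]
      intro x hx
      have h2 : (φ : ↥N →* ↥N) ⟨x, hx⟩ = ⟨x, hx⟩ := by
        rw [h1]
        rfl
      exact congrArg Subtype.val (hfpf ⟨x, hx⟩ h2)
  have hnil : Group.IsNilpotent ↥N := Cfsg.Agent.S0033.result φ hfpf r hr hord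
  have hnormal : (P₀' : Subgroup ↥N).Normal :=
    Sylow.normal_of_normalizerCondition Group.normalizerCondition_of_isNilpotent P₀'
  have hNT : N ≤ Subgroup.normalizer (P₀ : Set G) := by
    apply Cfsg.Agent.Lib.Helper53.le_normalizer_of_conj_mem
    intro g hg w hw
    have hwP : w ∈ (P : Subgroup G) := by
      rw [hP₀def] at hw
      exact (Subgroup.mem_inf.mp hw).1
    have h1 : (⟨w, hP₀N hw⟩ : ↥N) ∈ (P₀' : Subgroup ↥N) := by
      rw [hP₀']
      exact Subgroup.mem_subgroupOf.mpr hwP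
    have h2 := hnormal.conj_mem _ h1 ⟨g, hg⟩
    rw [hP₀', Subgroup.mem_subgroupOf] at h2
    rw [hP₀def]
    exact Subgroup.mem_inf.mpr ⟨h2, hN.conj_mem _ (hP₀N hw) g⟩
  have hNP₀ : N ≤ P₀ := fun x hx => hself (Subgroup.mem_inf.mpr ⟨hx, hNT hx⟩)
  have hNp : IsPGroup p N := hP₀p.to_le hNP₀
  obtain ⟨k, hk⟩ := IsPGroup.iff_card.mp hNp
  have hk0 : k ≠ 0 := by
    rintro rfl
    rw [pow_zero] at hk
    exact hN1 (Subgroup.card_eq_one.mp hk)
  rw [hk]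
  exact hp.isPrimePow.pow hk0

/-- The Camina pair trichotomy. -/
theorem trichotomy [Finite G] (N : Subgroup G) [N.Normal] (hN1 : N ≠ ⊥) (hN2 : N ≠ ⊤)
    (hcam : ∀ g : G, g ∉ N → ∀ n ∈ N, ∃ x : G, x * g * x⁻¹ = g * n) :
    (∀ x ∈ N, x ≠ 1 → Subgroup.centralizer ({x} : Set G) ≤ N) ∨ IsPrimePow (Nat.card N) ∨
      IsPrimePow N.index := by
  by_cases hcop : Nat.Coprime (Nat.card N) N.index
  · exact Or.inl (Cam.coprime hcam hcop)
  · right
    obtain ⟨p, hp, hpN, hpI⟩ := Nat.Prime.not_coprime_iff_dvd.mp hcop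
    have : Fact p.Prime := ⟨hp⟩
    by_cases hr : ∃ r : ℕ, r.Prime ∧ r ≠ p ∧ r ∣ N.index
    · obtain ⟨r, hr, hrp, hrI⟩ := hr
      exact Or.inl (Cam.card_prime_pow hN1 hcam p r hr hrp hpN hpI hrI)
    · right
      push Not at hr
      have hidx0 : N.index ≠ 0 := Subgroup.index_ne_zero_of_finite
      have h1 : N.index = p ^ N.index.primeFactorsList.length :=
        Nat.eq_prime_pow_of_unique_prime_dvd hidx0
          (fun {d} hd hdvd => by_contra fun hne => hr d hd hne hdvd)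
      rw [h1]
      apply hp.isPrimePow.pow
      intro h0
      rw [h0, pow_zero] at h1
      exact hN2 (Subgroup.index_eq_one.mp h1)

end Cfsg.Agent.Lib.Helper66.Camina
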