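import Mathlib
import Cfsg.Agent.S0044
import Cfsg.Agent.S0009
import Cfsg.Agent.S0040
import Cfsg.Agent.S3982
import Cfsg.Agent.Lib.Helper80.FrobPrime
import Cfsg.Agent.Lib.Helper22.CharP

/-!
# Solvable groups with disconnected prime graph (Gruenberg--Kegel, solvable case)

`gk_main`: a finite solvable group without elements of "mixed" order (w.r.t. a set `A` of primes)
is a Frobenius group or a 2-Frobenius group.
-/

set_option autoImplicit false

namespace Cfsg.Agent.Lib.Helper66

universe u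

open scoped commutatorElement

/-- all prime divisors of `n` lie in `A` -/
def IsNum (A : Set ℕ) (n : ℕ) : Prop := ∀ p : ℕ, p.Prime → p ∣ n → p ∈ A

theorem IsNum.of_dvd {A : Set ℕ} {m n : ℕ} (h : IsNum A n) (hd : m ∣ n) : IsNum A m :=
  fun p hp hpm => h p hp (hpm.trans hd)

theorem IsNum.mul {A : Set ℕ} {m n : ℕ} (hm : IsNum A m) (hn : IsNum A n) : IsNum A (m * n) :=
  fun p hp hd => (hp.dvd_mul.mp hd).elim (hm p hp) (hn p hp)

theorem IsNum.one (A : Set ℕ) : IsNum A 1 :=
  fun _ hp hd => absurd (Nat.dvd_one.mp hd) hp.one_lt.ne'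

theorem IsNum.coprime {A : Set ℕ} {m n : ℕ} (hm : IsNum A m) (hn : IsNum Aᶜ n) :
    Nat.Coprime m n :=
  Nat.coprime_of_dvd fun p hp h1 h2 => hn p hp h2 (hm p hp h1)

theorem IsNum.prime_pow {A : Set ℕ} {q : ℕ} (hq : q.Prime) (hqA : q ∈ A) (k : ℕ) :
    IsNum A (q ^ k) := by
  intro p hp hd
  have := (Nat.prime_dvd_prime_iff_eq hp hq).mp (hp.dvd_of_dvd_pow hd)
  exact this ▸ hqA

/-- no element has order divisible both by a prime in `A` and by a prime outside `A` -/
def NoMixed (A : Set ℕ) (G : Type*) [Group G] : Prop :=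
  ∀ g : G, ∀ a ∈ A, ∀ b ∉ A, a.Prime → b.Prime → a ∣ orderOf g → b ∣ orderOf g → False

theorem noMixed_of_no_order {G : Type*} [Group G] [Finite G] (A : Set ℕ)
    (h : ∀ a ∈ A, ∀ b ∉ A, a.Prime → b.Prime → ¬ ∃ g : G, orderOf g = a * b) : NoMixed A G := by
  intro g a ha b hb hap hbp hag hbg
  have hab : a ≠ b := fun e => hb (e ▸ ha)
  have hd : a * b ∣ orderOf g :=
    ((Nat.coprime_primes hap hbp).mpr hab).mul_dvd_of_dvd_of_dvd hag hbg
  exact h a ha b hb hap hbp
    ⟨g ^ (orderOf g / (a * b)), orderOf_pow_orderOf_div (orderOf_pos g).ne' hd⟩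

theorem NoMixed.compl {A : Set ℕ} {G : Type*} [Group G] (h : NoMixed A G) : NoMixed Aᶜ G := by
  intro g a ha b hb hap hbp hag hbg
  exact h g b (not_not.mp hb) a ha hbp hap hbg hag

theorem NoMixed.quotient {A : Set ℕ} {G : Type*} [Group G] (h : NoMixed A G) (N : Subgroup G)
    [N.Normal] : NoMixed A (G ⧸ N) := by
  intro x a ha b hb hap hbp hax hbx
  obtain ⟨g, rfl⟩ := QuotientGroup.mk'_surjective N x
  exact h g a ha b hb hap hbp (hax.trans (orderOf_map_dvd _ g)) (hbx.trans (orderOf_map_dvd _ g))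

theorem NoMixed.subgroup {A : Set ℕ} {G : Type*} [Group G] (h : NoMixed A G) (H : Subgroup G) :
    NoMixed A H := by
  intro x a ha b hb hap hbp hax hbx
  rw [← Subgroup.orderOf_coe] at hax hbx
  exact h (x : G) a ha b hb hap hbp hax hbx

theorem NoMixed.not_commute {G : Type*} [Group G] [Finite G] {A : Set ℕ} (h : NoMixed A G)
    {x y : G} (hc : Commute x y) {a b : ℕ} (ha : a ∈ A) (hb : b ∉ A) (hap : a.Prime)
    (hbp : b.Prime) (hax : a ∣ orderOf x) (hby : b ∣ orderOf y) : False := by
  have hab : a ≠ b := fun e => hb (e ▸ ha)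
  have hx' : orderOf (x ^ (orderOf x / a)) = a :=
    orderOf_pow_orderOf_div (orderOf_pos x).ne' hax
  have hy' : orderOf (y ^ (orderOf y / b)) = b :=
    orderOf_pow_orderOf_div (orderOf_pos y).ne' hby
  have hc' : Commute (x ^ (orderOf x / a)) (y ^ (orderOf y / b)) :=
    (hc.pow_left _).pow_right _
  have ho : orderOf (x ^ (orderOf x / a) * y ^ (orderOf y / b)) = a * b := by
    rw [hc'.orderOf_mul_eq_mul_orderOf_of_coprime, hx', hy']
    rw [hx', hy']
    exact (Nat.coprime_primes hap hbp).mpr hab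
  exact h _ a ha b hb hap hbp (ho ▸ dvd_mul_right a b) (ho ▸ dvd_mul_left b a)

/-- a maximal normal `A`-subgroup -/
theorem exists_max_normal (A : Set ℕ) (G : Type*) [Group G] [Finite G] :
    ∃ M : Subgroup G, M.Normal ∧ IsNum A (Nat.card M) ∧
      ∀ N : Subgroup G, N.Normal → IsNum A (Nat.card N) → Nat.card N ≤ Nat.card M := by
  obtain ⟨M, hM, hmax⟩ := Set.exists_max_image
    {N : Subgroup G | N.Normal ∧ IsNum A (Nat.card N)} (fun N => Nat.card N) (Set.toFinite _)
    ⟨⊥, inferInstance, by rw [Subgroup.card_bot]; exact IsNum.one A⟩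
  exact ⟨M, hM.1, hM.2, fun N hN hNA => hmax N ⟨hN, hNA⟩⟩

theorem card_comap_mk {G : Type*} [Group G] [Finite G] (M : Subgroup G) [M.Normal]
    (T : Subgroup (G ⧸ M)) :
    Nat.card (T.comap (QuotientGroup.mk' M)) = Nat.card M * Nat.card T ∧
    M ≤ T.comap (QuotientGroup.mk' M) ∧
    M.relIndex (T.comap (QuotientGroup.mk' M)) = Nat.card T := by
  have hML : M ≤ T.comap (QuotientGroup.mk' M) := by
    intro x hx
    rw [Subgroup.mem_comap, QuotientGroup.mk'_apply, (QuotientGroup.eq_one_iff x).mpr hx]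
    exact T.one_mem
  have h1 : M.relIndex (T.comap (QuotientGroup.mk' M)) = Nat.card T := by
    have h := Subgroup.relIndex_comap (H := (⊥ : Subgroup (G ⧸ M))) (QuotientGroup.mk' M)
      (T.comap (QuotientGroup.mk' M))
    rw [MonoidHom.comap_bot, QuotientGroup.ker_mk',
      Subgroup.map_comap_eq_self_of_surjective (QuotientGroup.mk'_surjective M),
      Subgroup.relIndex_bot_left] at h
    exact h
  refine ⟨?_, hML, h1⟩
  have h := Subgroup.relIndex_mul_relIndex (⊥ : Subgroup G) M (T.comap (QuotientGroup.mk' M))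
    bot_le hML
  rw [Subgroup.relIndex_bot_left, Subgroup.relIndex_bot_left, h1] at h
  exact h.symm

theorem quot_core_trivial {A : Set ℕ} {G : Type*} [Group G] [Finite G] (M : Subgroup G)
    [M.Normal] (hMA : IsNum A (Nat.card M))
    (hmax : ∀ N : Subgroup G, N.Normal → IsNum A (Nat.card N) → Nat.card N ≤ Nat.card M)
    (N : Subgroup (G ⧸ M)) (hN : N.Normal) (hNA : IsNum A (Nat.card N)) : N = ⊥ := by
  obtain ⟨hcard, -, -⟩ := card_comap_mk M N
  have h1 := hmax (N.comap (QuotientGroup.mk' M)) (hN.comap _)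
    (by rw [hcard]; exact hMA.mul hNA)
  rw [hcard] at h1
  have hM0 : 0 < Nat.card M := Nat.card_pos
  have h2 : Nat.card N ≤ 1 := Nat.le_of_mul_le_mul_left (by rwa [mul_one]) hM0
  exact Subgroup.eq_bot_of_card_le N h2

theorem subgroupOf_ne_bot {G : Type*} [Group G] {M L : Subgroup G} (hML : M ≤ L) (hM1 : M ≠ ⊥) :
    M.subgroupOf L ≠ ⊥ := by
  intro h
  apply hM1
  rw [eq_bot_iff]
  intro x hx
  have h1 : (⟨x, hML hx⟩ : L) ∈ M.subgroupOf L := by
    rw [Subgroup.mem_subgroupOf]; exact hx
  rw [h, Subgroup.mem_bot] at h1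
  rw [Subgroup.mem_bot]
  exact congrArg Subtype.val h1

/-- a cyclic normal subgroup is centralized by the commutator subgroup -/
theorem cyclic_normal_le_centralizer_commutator {X : Type*} [Group X] (T : Subgroup X)
    [hTn : T.Normal] [hTc : IsCyclic T] :
    T ≤ Subgroup.centralizer (commutator X : Set X) := by
  have key : commutator X ≤ Subgroup.centralizer (T : Set X) := by
    rw [commutator_eq_closure, Subgroup.closure_le]
    rintro c ⟨x, y, rfl⟩
    rw [SetLike.mem_coe, Subgroup.mem_centralizer_iff]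
    intro t ht
    have hcomm : ∀ a b : MulAut T, a * b = b * a := fun a b =>
      (IsCyclic.mulAutMulEquiv (G := T)).injective (by rw [map_mul, map_mul, mul_comm])
    have h1 : (MulAut.conjNormal (H := T)) ⁅x, y⁆ = 1 := by
      rw [commutatorElement_def, map_mul, map_mul, map_mul, map_inv, map_inv,
        hcomm (MulAut.conjNormal x) (MulAut.conjNormal y)]
      group
    have h2 := congrArg (fun a : MulAut T => ((a ⟨t, ht⟩ : T) : X)) h1
    simp only [MulAut.conjNormal_apply, MulAut.one_apply] at h2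
    exact (mul_inv_eq_iff_eq_mul.mp h2).symm
  exact Subgroup.le_centralizer_iff.mp key

/-- Structure of a `q`-subgroup `T` of `G ⧸ M` when `M ≠ 1` is an `A`-group, `q ∉ A` and `G` has
no elements of mixed order: `T` is cyclic for `q` odd and has at most one involution for `q = 2`. -/
theorem quot_pgroup_structure {G : Type u} [Group G] [Finite G] {A : Set ℕ} (hnm : NoMixed A G)
    (M : Subgroup G) [hMn : M.Normal] (hM1 : M ≠ ⊥) (hMA : IsNum A (Nat.card M))
    (q : ℕ) [hq : Fact q.Prime] (hqA : q ∉ A) (T : Subgroup (G ⧸ M)) (hTq : IsPGroup q T) :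
    (q ≠ 2 → IsCyclic T) ∧
    (q = 2 → ∀ x ∈ T, ∀ y ∈ T, orderOf x = 2 → orderOf y = 2 → x = y) := by
  classical
  obtain ⟨L, hL⟩ : ∃ L : Subgroup G, L = T.comap (QuotientGroup.mk' M) := ⟨_, rfl⟩
  obtain ⟨hcardL, hML, hrel⟩ := card_comap_mk M T
  rw [← hL] at hcardL hML hrel
  obtain ⟨N, hN⟩ : ∃ N : Subgroup L, N = M.subgroupOf L := ⟨_, rfl⟩
  have hNn : N.Normal := hN ▸ Subgroup.Normal.subgroupOf hMn L
  have hLmem : ∀ g : G, g ∈ L ↔ QuotientGroup.mk' M g ∈ T := by
    intro g; rw [hL, Subgroup.mem_comap]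
  have hNmem : ∀ x : L, x ∈ N ↔ (x : G) ∈ M := by
    intro x; rw [hN, Subgroup.mem_subgroupOf]
  obtain ⟨k, hk⟩ := IsPGroup.iff_card.mp hTq
  have hNcard : Nat.card N = Nat.card M := by
    rw [hN]; exact Nat.card_congr (Subgroup.subgroupOfEquivOfLe hML).toEquiv
  have hNidx : N.index = q ^ k := by rw [← hk, ← hrel, hN]; rfl
  have hcop : Nat.Coprime (Nat.card N) N.index := by
    rw [hNcard, hNidx]
    exact hMA.coprime (IsNum.prime_pow hq.out hqA k)
  obtain ⟨Q, hc⟩ := Subgroup.exists_right_complement'_of_coprime hcop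
  have hQcard : Nat.card Q = q ^ k := by
    have h1 := hc.card_mul_card
    have h2 := N.card_mul_index
    have h3 : Nat.card N * Nat.card Q = Nat.card N * N.index := by rw [h1, h2]
    rw [← hNidx]
    exact Nat.eq_of_mul_eq_mul_left Nat.card_pos h3
  have hN1 : N ≠ ⊥ := hN ▸ subgroupOf_ne_bot hML hM1
  have hnmL : NoMixed A L := hnm.subgroup L
  have hfpf : ∀ h ∈ Q, h ≠ 1 → ∀ x ∈ N, x ≠ 1 → ¬ Commute x h := by
    intro h hh hh1 x hx hx1 hcomm
    obtain ⟨a, hap, hax⟩ := Nat.exists_prime_and_dvd (fun e => hx1 (orderOf_eq_one_iff.mp e))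
    obtain ⟨b, hbp, hbh⟩ := Nat.exists_prime_and_dvd (fun e => hh1 (orderOf_eq_one_iff.mp e))
    have haA : a ∈ A := by
      apply hMA a hap
      rw [← hNcard]
      exact hax.trans (Subgroup.orderOf_dvd_natCard N hx)
    have hbq : b = q := by
      have h1 : b ∣ q ^ k := by
        rw [← hQcard]; exact hbh.trans (Subgroup.orderOf_dvd_natCard Q hh)
      exact (Nat.prime_dvd_prime_iff_eq hbp hq.out).mp (hbp.dvd_of_dvd_pow h1)
    exact hnmL.not_commute hcomm haA (hbq ▸ hqA) hap hbp hax hbh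
  let f : Q →* G ⧸ M := (QuotientGroup.mk' M).comp (L.subtype.comp Q.subtype)
  have hf_apply : ∀ x : Q, f x = QuotientGroup.mk' M ((x : L) : G) := fun _ => rfl
  have hf_inj : Function.Injective f := by
    rw [injective_iff_map_eq_one]
    intro x hx
    rw [hf_apply] at hx
    have h1 : ((x : L) : G) ∈ M := (QuotientGroup.eq_one_iff _).mp hx
    have h2 : (x : L) ∈ N := (hNmem _).mpr h1
    have h3 : (x : L) = 1 := Subgroup.disjoint_def.mp hc.disjoint h2 x.2
    exact Subtype.ext h3
  have hf_mem : ∀ x : Q, f x ∈ T := by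
    intro x
    exact (hLmem _).mp (x : L).2
  have hf_surj : ∀ t ∈ T, ∃ x : Q, f x = t := by
    intro t ht
    obtain ⟨g, rfl⟩ := QuotientGroup.mk'_surjective M t
    have hg : g ∈ L := (hLmem g).mpr ht
    obtain ⟨⟨n, c⟩, hnc⟩ := hc.2 (⟨g, hg⟩ : L)
    refine ⟨c, ?_⟩
    have hnc' : (n : L) * (c : L) = ⟨g, hg⟩ := hnc
    have h1 : ((n : L) : G) * ((c : L) : G) = g := congrArg Subtype.val hnc'
    have h2 : QuotientGroup.mk' M ((n : L) : G) = 1 := by
      exact (QuotientGroup.eq_one_iff _).mpr ((hNmem _).mp n.2)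
    rw [hf_apply, ← h1, map_mul, h2, one_mul]
  refine ⟨fun hq2 => ?_, fun hq2 => ?_⟩
  · -- `q` odd: cyclic
    obtain ⟨P, hP⟩ := ((IsPGroup.of_card hQcard).to_subgroup (⊤ : Subgroup Q)).exists_le_sylow
    have hfpf' : ∀ h ∈ Q, h ≠ 1 → N ⊓ Subgroup.centralizer {h} = ⊥ := by
      intro h hh hh1
      rw [eq_bot_iff]
      intro x hx
      rw [Subgroup.mem_bot]
      by_contra hx1
      have hx2 : x ∈ Subgroup.centralizer {h} := hx.2
      rw [Subgroup.mem_centralizer_iff] at hx2
      exact hfpf h hh hh1 x hx.1 hx1 (hx2 h (Set.mem_singleton h)).symm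
    have hPtop : ∀ x : Q, x ∈ (P : Subgroup Q) := fun x => hP (Subgroup.mem_top x)
    rcases Cfsg.Agent.S0040.result N Q hc hN1 hfpf' q P with hcyc | ⟨n, ⟨e⟩⟩
    · let g : (P : Subgroup Q) →* T :=
        (f.comp (P : Subgroup Q).subtype).codRestrict T (fun x => hf_mem _)
      have hg : Function.Surjective g := by
        intro t
        obtain ⟨x, hx⟩ := hf_surj t t.2
        exact ⟨⟨x, hPtop x⟩, Subtype.ext hx⟩
      exact isCyclic_of_surjective g hg
    · exfalso
      have h1 : Nat.card (P : Subgroup Q) = Nat.card Q := by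
        have : (P : Subgroup Q) = ⊤ := top_le_iff.mp hP
        rw [this, Subgroup.card_top]
      have h2 : Nat.card (P : Subgroup Q) = 4 * 2 ^ n := by
        rw [Nat.card_congr e.toEquiv, Nat.card_eq_fintype_card, QuaternionGroup.card]
      have h3 : 2 ∣ q ^ k := by
        rw [← hQcard, ← h1, h2]
        exact Dvd.dvd.mul_right (by norm_num) _
      exact hq2 ((Nat.prime_dvd_prime_iff_eq Nat.prime_two hq.out).mp
        (Nat.prime_two.dvd_of_dvd_pow h3)).symm
  · -- `q = 2`: at most one involution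
    intro x hx y hy hox hoy
    obtain ⟨u, rfl⟩ := hf_surj x hx
    obtain ⟨v, rfl⟩ := hf_surj y hy
    rw [orderOf_injective f hf_inj] at hox hoy
    congr 1
    have hu2 : (u : L) * (u : L) = 1 := by
      have h1 : u ^ 2 = 1 := hox ▸ pow_orderOf_eq_one u
      have h2 := congrArg Subtype.val h1
      rw [pow_two] at h2
      exact h2
    have hv2 : (v : L) * (v : L) = 1 := by
      have h1 : v ^ 2 = 1 := hoy ▸ pow_orderOf_eq_one v
      have h2 := congrArg Subtype.val h1
      rw [pow_two] at h2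
      exact h2
    have hu1 : u ≠ 1 := by
      intro e; rw [e, orderOf_one] at hox; omega
    have hv1 : v ≠ 1 := by
      intro e; rw [e, orderOf_one] at hoy; omega
    have hinv : ∀ w : Q, w ≠ 1 → (w : L) * (w : L) = 1 →
        ∀ r ∈ N, (w : L) * r * (w : L)⁻¹ = r⁻¹ := by
      intro w hw1 hw2
      apply Cfsg.Agent.S3982.inverts_of_fpf N (w : L) hw2 (fun r hr => hNn.conj_mem r hr _)
      intro r hr hfix
      by_contra hr1
      apply hfpf w w.2 (fun e => hw1 (Subtype.ext e)) r hr hr1
      show r * (w : L) = (w : L) * r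
      exact (mul_inv_eq_iff_eq_mul.mp hfix).symm
    by_contra huv
    have hw1 : u * v ≠ 1 := by
      intro e
      apply huv
      have h1 : (u : L) * (v : L) = 1 := congrArg Subtype.val e
      apply Subtype.ext
      calc (u : L) = (u : L) * ((v : L) * (v : L)) := by rw [hv2, mul_one]
        _ = ((u : L) * (v : L)) * (v : L) := by rw [mul_assoc]
        _ = (v : L) := by rw [h1, one_mul]
    obtain ⟨n, hn1⟩ := (Subgroup.ne_bot_iff_exists_ne_one).mp hN1
    apply hfpf ((u * v : Q) : L) (u * v).2 (fun e => hw1 (Subtype.ext e)) (n : L) n.2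
      (fun e => hn1 (Subtype.ext e))
    show (n : L) * ((u : L) * (v : L)) = ((u : L) * (v : L)) * (n : L)
    have h1 := hinv v hv1 hv2 (n : L) n.2
    have h2 := hinv u hu1 hu2 ((n : L))⁻¹ (N.inv_mem n.2)
    rw [inv_inv] at h2
    have h3 : ((u : L) * (v : L)) * (n : L) * ((u : L) * (v : L))⁻¹ = (n : L) := by
      calc ((u : L) * (v : L)) * (n : L) * ((u : L) * (v : L))⁻¹
          = (u : L) * ((v : L) * (n : L) * (v : L)⁻¹) * (u : L)⁻¹ := by group
        _ = (n : L) := by rw [h1, h2]
    exact (mul_inv_eq_iff_eq_mul.mp h3).symm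

/-- **Gruenberg--Kegel, solvable case**: a finite solvable group without elements of mixed order
(with respect to `A`), not an `A`-group, with a nontrivial normal `p`-subgroup for some `p ∈ A`,
is a Frobenius group or a 2-Frobenius group. -/
theorem gk_main {G : Type u} [Group G] [Finite G] [hsol : Group.IsSolvable G] (A : Set ℕ)
    (hnm : NoMixed A G) (hb : ∃ b ∉ A, b.Prime ∧ b ∣ Nat.card G)
    (hcore : ∃ p ∈ A, p.Prime ∧ Cfsg.pCore p G ≠ ⊥) :
    (∃ C : Subgroup G, Cfsg.IsFrobeniusComplement C) ∨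
    (∃ (H K : Subgroup G) (_ : H.Normal), K.Normal ∧ H < K ∧
      (∃ C : Subgroup ↥K, Cfsg.IsFrobeniusComplement C ∧
        Cfsg.frobeniusKernel C = (H.subgroupOf K : Set ↥K)) ∧
      (∃ C : Subgroup (G ⧸ H), Cfsg.IsFrobeniusComplement C ∧
        Cfsg.frobeniusKernel C = (K.map (QuotientGroup.mk' H) : Set (G ⧸ H)))) := by
  classical
  obtain ⟨M, hMn, hMA, hmax⟩ := exists_max_normal A G
  have hM1 : M ≠ ⊥ := by
    obtain ⟨p, hpA, hp, hcore⟩ := hcore
    have := Fact.mk hp
    intro h
    have h1 := hmax (Cfsg.pCore p G) (Cfsg.Agent.Lib.Helper22.pCore_normal' p G) (by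
      obtain ⟨k, hk⟩ := IsPGroup.iff_card.mp (Cfsg.Agent.Lib.Helper55.pCore_isPGroup p G)
      rw [hk]; exact IsNum.prime_pow hp hpA k)
    rw [h, Subgroup.card_bot] at h1
    exact hcore (Subgroup.eq_bot_of_card_le _ h1)
  have hquot : ∀ N : Subgroup (G ⧸ M), N.Normal → IsNum A (Nat.card N) → N = ⊥ :=
    quot_core_trivial M hMA hmax
  have hnmQ : NoMixed A (G ⧸ M) := hnm.quotient M
  by_cases hcase : IsNum Aᶜ (Nat.card (G ⧸ M))
  · left
    have hcop : Nat.Coprime (Nat.card M) M.index := by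
      rw [Subgroup.index_eq_card]
      exact hMA.coprime hcase
    obtain ⟨C, hc⟩ := Subgroup.exists_right_complement'_of_coprime hcop
    have hC1 : C ≠ ⊥ := by
      intro h
      rw [h, Subgroup.isComplement'_bot_right] at hc
      obtain ⟨b, hbA, hbp, hbd⟩ := hb
      apply hbA
      apply hMA b hbp
      rw [hc, Subgroup.card_top]; exact hbd
    have hcent : ∀ x ∈ M, x ≠ 1 → ∀ c : G, c * x = x * c → c ∈ M := by
      intro x hx hx1 c hcx
      by_contra hcM
      have hc1 : (QuotientGroup.mk' M c) ≠ 1 := fun e => hcM ((QuotientGroup.eq_one_iff c).mp e)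
      obtain ⟨b, hbp, hbd⟩ := Nat.exists_prime_and_dvd (fun e => hc1 (orderOf_eq_one_iff.mp e))
      have hbA : b ∉ A := hcase b hbp (hbd.trans (orderOf_dvd_natCard _))
      have hbc : b ∣ orderOf c := hbd.trans (orderOf_map_dvd _ c)
      obtain ⟨a, hap, had⟩ := Nat.exists_prime_and_dvd (fun e => hx1 (orderOf_eq_one_iff.mp e))
      have haA : a ∈ A := hMA a hap (had.trans (Subgroup.orderOf_dvd_natCard M hx))
      exact hnm.not_commute (show Commute x c from hcx.symm) haA hbA hap hbp had hbc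
    exact ⟨C, (Cfsg.Agent.Lib.Helper80.frobenius_of_centralizer M C hc hC1 hM1 hcent).1⟩
  · right
    have hex : ∃ s : ℕ, s.Prime ∧ s ∣ Nat.card (G ⧸ M) ∧ s ∈ A := by
      unfold IsNum at hcase
      push Not at hcase
      obtain ⟨s, hs, hsd, hsA⟩ := hcase
      exact ⟨s, hs, hsd, not_not.mp hsA⟩
    obtain ⟨s, hs, hsd, hsA⟩ := hex
    have := Fact.mk hs
    obtain ⟨hbar, hhbar⟩ := exists_prime_orderOf_dvd_card' (G := G ⧸ M) s hsd
    obtain ⟨F, hF⟩ : ∃ F : Subgroup (G ⧸ M), F = Cfsg.fittingSubgroup (G ⧸ M) := ⟨_, rfl⟩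
    have hFn : F.Normal := hF ▸ Cfsg.Agent.Lib.Helper71.fittingSubgroup_normal
    have hCF : Subgroup.centralizer (F : Set (G ⧸ M)) ≤ F := hF ▸ Cfsg.Agent.S0044.result
    have hFsup : F = ⨆ p : Nat.Primes, Cfsg.pCore (p : ℕ) (G ⧸ M) :=
      hF ▸ Cfsg.Agent.S0009.result
    have hFnil : Group.IsNilpotent F := hF ▸ Cfsg.Agent.Lib.Helper71.fittingSubgroup_isNilpotent
    -- each `p`-core is centralized by the commutator subgroup
    have hcore_comm : ∀ p : Nat.Primes, Cfsg.pCore (p : ℕ) (G ⧸ M) ≤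
        Subgroup.centralizer (commutator (G ⧸ M) : Set (G ⧸ M)) := by
      intro p
      have := Fact.mk p.2
      obtain ⟨T, hT⟩ : ∃ T : Subgroup (G ⧸ M), T = Cfsg.pCore (p : ℕ) (G ⧸ M) := ⟨_, rfl⟩
      rw [← hT]
      have hTn : T.Normal := hT ▸ Cfsg.Agent.Lib.Helper22.pCore_normal' _ _
      have hTp : IsPGroup (p : ℕ) T := hT ▸ Cfsg.Agent.Lib.Helper55.pCore_isPGroup _ _
      by_cases hT1 : T = ⊥
      · rw [hT1]; exact bot_le
      obtain ⟨k, hk⟩ := IsPGroup.iff_card.mp hTp
      have hpA : (p : ℕ) ∉ A := by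
        intro hpA
        apply hT1
        apply hquot T hTn
        rw [hk]; exact IsNum.prime_pow p.2 hpA k
      obtain ⟨h1, h2⟩ := quot_pgroup_structure hnm M hM1 hMA (p : ℕ) hpA T hTp
      have hp2 : (p : ℕ) ≠ 2 := by
        intro hp2
        have hk0 : k ≠ 0 := by
          rintro rfl
          rw [pow_zero] at hk
          exact hT1 (Subgroup.eq_bot_of_card_le _ hk.le)
        have : Fact (Nat.Prime 2) := ⟨Nat.prime_two⟩
        obtain ⟨z, hz⟩ := exists_prime_orderOf_dvd_card' (G := T) 2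
          (by rw [hk, hp2]; exact dvd_pow_self 2 hk0)
        have hz' : orderOf (z : G ⧸ M) = 2 := by rw [Subgroup.orderOf_coe]; exact hz
        have hconj : hbar * (z : G ⧸ M) * hbar⁻¹ = (z : G ⧸ M) := by
          apply h2 hp2 _ (hTn.conj_mem z z.2 hbar) _ z.2 _ hz'
          have := MulEquiv.orderOf_eq (MulAut.conj hbar) (z : G ⧸ M)
          rw [MulAut.conj_apply] at this
          rw [this, hz']
        have hcomm : Commute hbar (z : G ⧸ M) := mul_inv_eq_iff_eq_mul.mp hconj
        exact hnmQ.not_commute hcomm hsA (hp2 ▸ hpA) hs Nat.prime_two (hhbar ▸ dvd_rfl)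
          (hz' ▸ dvd_rfl)
      have := h1 hp2
      have := hTn
      exact cyclic_normal_le_centralizer_commutator T
    have hFcomm : F ≤ Subgroup.centralizer (commutator (G ⧸ M) : Set (G ⧸ M)) := by
      rw [hFsup]; exact iSup_le hcore_comm
    have hcommF : commutator (G ⧸ M) ≤ F := (Subgroup.le_centralizer_iff.mp hFcomm).trans hCF
    -- `F` is an `A'`-group
    have hFA : IsNum Aᶜ (Nat.card F) := by
      intro a hap had
      by_contra haA'
      have haA : a ∈ A := not_not.mp haA'
      have := Fact.mk hap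
      obtain ⟨P⟩ : Nonempty (Sylow a F) := inferInstance
      have htfae : Group.IsNilpotent F ↔
          ∀ (p : ℕ) (_hp : Fact p.Prime) (P : Sylow p F), (P : Subgroup F).Normal :=
        (Group.isNilpotent_of_finite_tfae (G := F)).out 0 3
      have hPn : (P : Subgroup F).Normal := htfae.mp hFnil a inferInstance P
      have hPc : (P : Subgroup F).Characteristic := Sylow.characteristic_of_normal P hPn
      have := hFn
      have hPGn : ((P : Subgroup F).map F.subtype).Normal :=
        ConjAct.normal_of_characteristic_of_normal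
      have hcard : Nat.card ((P : Subgroup F).map F.subtype) = Nat.card (P : Subgroup F) :=
        Subgroup.card_map_of_injective (Subgroup.subtype_injective F)
      have hPnum : IsNum A (Nat.card ((P : Subgroup F).map F.subtype)) := by
        rw [hcard]
        obtain ⟨k, hk⟩ := IsPGroup.iff_card.mp P.isPGroup'
        rw [hk]; exact IsNum.prime_pow hap haA k
      have hbot := hquot _ hPGn hPnum
      have h1 : Nat.card (P : Subgroup F) = 1 := by rw [← hcard, hbot, Subgroup.card_bot]
      have h2 : a ∣ Nat.card (P : Subgroup F) := by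
        rw [P.card_eq_multiplicity]
        exact dvd_pow_self a (Nat.Prime.factorization_pos_of_dvd hap Nat.card_pos.ne' had).ne'
      rw [h1] at h2
      exact hap.one_lt.ne' (Nat.dvd_one.mp h2)
    have hFtop : hbar ∉ F := by
      intro hhF
      have h1 : s ∈ Aᶜ := hFA s hs (hhbar ▸ Subgroup.orderOf_dvd_natCard F hhF)
      exact h1 hsA
    -- every `A'`-element lies in `F`
    have hmemF : ∀ k : G ⧸ M, IsNum Aᶜ (orderOf k) → k ∈ F := by
      intro k hk
      by_contra hkF
      have := hFn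
      have hnmQQ : NoMixed A ((G ⧸ M) ⧸ F) := hnmQ.quotient F
      have hk'1 : QuotientGroup.mk' F k ≠ 1 := fun e => hkF ((QuotientGroup.eq_one_iff k).mp e)
      have hh'1 : QuotientGroup.mk' F hbar ≠ 1 :=
        fun e => hFtop ((QuotientGroup.eq_one_iff hbar).mp e)
      obtain ⟨b, hbp, hbd⟩ := Nat.exists_prime_and_dvd
        (fun e => hk'1 (orderOf_eq_one_iff.mp e))
      have hbA : b ∉ A := hk b hbp (hbd.trans (orderOf_map_dvd _ k))
      have hsh' : s ∣ orderOf (QuotientGroup.mk' F hbar) := by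
        have h1 : orderOf (QuotientGroup.mk' F hbar) ∣ s :=
          hhbar ▸ orderOf_map_dvd (QuotientGroup.mk' F) hbar
        rcases (Nat.dvd_prime hs).mp h1 with h2 | h2
        · exact absurd (orderOf_eq_one_iff.mp h2) hh'1
        · rw [h2]
      have hcomm : Commute (QuotientGroup.mk' F hbar) (QuotientGroup.mk' F k) := by
        show QuotientGroup.mk' F hbar * QuotientGroup.mk' F k
          = QuotientGroup.mk' F k * QuotientGroup.mk' F hbar
        rw [← map_mul, ← map_mul, QuotientGroup.mk'_apply, QuotientGroup.mk'_apply,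
          QuotientGroup.eq]
        apply hcommF
        have h1 : (hbar * k)⁻¹ * (k * hbar) = ⁅k⁻¹, hbar⁻¹⁆ := by
          rw [commutatorElement_def]; group
        rw [h1]
        exact Subgroup.commutator_mem_commutator (Subgroup.mem_top _) (Subgroup.mem_top _)
      exact hnmQQ.not_commute hcomm hsA hbA hs hbp hsh' hbd
    have hF1 : F ≠ ⊥ := by
      intro h
      apply hFtop
      apply hCF
      rw [h, Subgroup.mem_centralizer_iff]
      intro y hy
      have h1 : y = 1 := hy
      rw [h1, one_mul, mul_one]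
    obtain ⟨L, hL⟩ : ∃ L : Subgroup G, L = F.comap (QuotientGroup.mk' M) := ⟨_, rfl⟩
    have hLn : L.Normal := hL ▸ hFn.comap _
    obtain ⟨hcardL, hML, hrel⟩ := card_comap_mk M F
    rw [← hL] at hcardL hML hrel
    have hLmem : ∀ g : G, g ∈ L ↔ QuotientGroup.mk' M g ∈ F := by
      intro g; rw [hL, Subgroup.mem_comap]
    have hLmap : L.map (QuotientGroup.mk' M) = F := by
      rw [hL]
      exact Subgroup.map_comap_eq_self_of_surjective (QuotientGroup.mk'_surjective M) F
    have hMLlt : M < L := by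
      refine lt_of_le_of_ne hML (fun e => hF1 ?_)
      rw [← hLmap, ← e, QuotientGroup.map_mk'_self]
    -- Part 1: `L` is a Frobenius group with kernel `M`
    have part1 : ∃ C : Subgroup L, Cfsg.IsFrobeniusComplement C ∧
        Cfsg.frobeniusKernel C = (M.subgroupOf L : Set L) := by
      obtain ⟨N, hN⟩ : ∃ N : Subgroup L, N = M.subgroupOf L := ⟨_, rfl⟩
      rw [← hN]
      have hNn : N.Normal := hN ▸ Subgroup.Normal.subgroupOf hMn L
      have hNmem : ∀ x : L, x ∈ N ↔ (x : G) ∈ M := by
        intro x; rw [hN, Subgroup.mem_subgroupOf]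
      have hNcard : Nat.card N = Nat.card M := by
        rw [hN]; exact Nat.card_congr (Subgroup.subgroupOfEquivOfLe hML).toEquiv
      have hNidx : N.index = Nat.card F := by rw [← hrel, hN]; rfl
      have hcop : Nat.Coprime (Nat.card N) N.index := by
        rw [hNcard, hNidx]; exact hMA.coprime hFA
      obtain ⟨C, hc⟩ := Subgroup.exists_right_complement'_of_coprime hcop
      have hN1 : N ≠ ⊥ := hN ▸ subgroupOf_ne_bot hML hM1
      have hC1 : C ≠ ⊥ := by
        intro h
        rw [h, Subgroup.isComplement'_bot_right] at hc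
        apply hMLlt.ne
        apply le_antisymm hML
        intro x hx
        have h1 : (⟨x, hx⟩ : L) ∈ N := by rw [hc]; exact Subgroup.mem_top _
        exact (hNmem _).mp h1
      have hcent : ∀ x ∈ N, x ≠ 1 → ∀ c : L, c * x = x * c → c ∈ N := by
        intro x hx hx1 c hcx
        rw [hNmem]
        by_contra hcM
        have hc1 : QuotientGroup.mk' M (c : G) ≠ 1 :=
          fun e => hcM ((QuotientGroup.eq_one_iff _).mp e)
        have hcF : QuotientGroup.mk' M (c : G) ∈ F := (hLmem _).mp c.2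
        obtain ⟨b, hbp, hbd⟩ := Nat.exists_prime_and_dvd
          (fun e => hc1 (orderOf_eq_one_iff.mp e))
        have hbA : b ∉ A := hFA b hbp (hbd.trans (Subgroup.orderOf_dvd_natCard F hcF))
        have hbc : b ∣ orderOf (c : G) := hbd.trans (orderOf_map_dvd _ _)
        have hx1' : (x : G) ≠ 1 := fun e => hx1 (Subtype.ext e)
        obtain ⟨a, hap, had⟩ := Nat.exists_prime_and_dvd
          (fun e => hx1' (orderOf_eq_one_iff.mp e))
        have hxM : (x : G) ∈ M := (hNmem _).mp hx
        have haA : a ∈ A := hMA a hap (had.trans (Subgroup.orderOf_dvd_natCard M hxM))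
        have hcomm : Commute (x : G) (c : G) := (congrArg Subtype.val hcx).symm
        exact hnm.not_commute hcomm haA hbA hap hbp had hbc
      exact ⟨C, Cfsg.Agent.Lib.Helper80.frobenius_of_centralizer N C hc hC1 hN1 hcent⟩
    -- Part 2: `G ⧸ M` is a Frobenius group with kernel `F = L / M`
    have part2 : ∃ C : Subgroup (G ⧸ M), Cfsg.IsFrobeniusComplement C ∧
        Cfsg.frobeniusKernel C = (L.map (QuotientGroup.mk' M) : Set (G ⧸ M)) := by
      rw [hLmap]
      have := hFn
      have hidx : IsNum A F.index := by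
        intro b hbp hbd
        by_contra hbA
        have := Fact.mk hbp
        rw [Subgroup.index_eq_card] at hbd
        obtain ⟨y, hy⟩ := exists_prime_orderOf_dvd_card' (G := (G ⧸ M) ⧸ F) b hbd
        obtain ⟨y0, rfl⟩ := QuotientGroup.mk'_surjective F y
        have hb0 : b ∣ orderOf y0 := hy ▸ orderOf_map_dvd (QuotientGroup.mk' F) y0
        have hy0 : y0 ∈ F := hmemF y0 (by
          intro a hap had
          by_contra haA
          exact hnmQ y0 a (not_not.mp haA) b hbA hap hbp had hb0)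
        have h1 : QuotientGroup.mk' F y0 = 1 := (QuotientGroup.eq_one_iff y0).mpr hy0
        rw [h1, orderOf_one] at hy
        exact hbp.one_lt.ne hy
      have hcop : Nat.Coprime (Nat.card F) F.index :=
        Nat.coprime_of_dvd fun p hp h1 h2 => hFA p hp h1 (hidx p hp h2)
      obtain ⟨C, hc⟩ := Subgroup.exists_right_complement'_of_coprime hcop
      have hC1 : C ≠ ⊥ := by
        intro h
        rw [h, Subgroup.isComplement'_bot_right] at hc
        exact hFtop (hc ▸ Subgroup.mem_top _)
      have hcent : ∀ x ∈ F, x ≠ 1 → ∀ c : G ⧸ M, c * x = x * c → c ∈ F := by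
        intro x hx hx1 c hcx
        apply hmemF
        intro a hap had
        by_contra haA
        obtain ⟨b, hbp, hbd⟩ := Nat.exists_prime_and_dvd
          (fun e => hx1 (orderOf_eq_one_iff.mp e))
        have hbA : b ∉ A := hFA b hbp (hbd.trans (Subgroup.orderOf_dvd_natCard F hx))
        exact hnmQ.not_commute (show Commute c x from hcx) (not_not.mp haA) hbA hap hbp had hbd
      exact ⟨C, Cfsg.Agent.Lib.Helper80.frobenius_of_centralizer F C hc hC1 hF1 hcent⟩
    exact ⟨M, L, hMn, hLn, hMLlt, part1, part2⟩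

end Cfsg.Agent.Lib.Helper66
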