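import Mathlib

set_option autoImplicit false
open scoped Pointwise

namespace Cfsg.Agent.Lib.Helper66

/-- `C(p^β m - 1, p^β - 1) ≡ 1 (mod p)` -/
theorem choose_pred_modEq_one (p : ℕ) [Fact p.Prime] (β m : ℕ) (hm : 0 < m) :
    Nat.choose (p ^ β * m - 1) (p ^ β - 1) ≡ 1 [MOD p] := by
  have hp : p.Prime := Fact.out
  have hp0 : 0 < p := hp.pos
  induction β with
  | zero => simp [Nat.ModEq.refl]
  | succ β ih =>
    have hpos : 0 < p ^ β * m := Nat.mul_pos (pow_pos hp0 β) hm
    have hpos' : 0 < p ^ β := pow_pos hp0 β
    have e1 : p ^ (β + 1) * m - 1 = (p - 1) + p * (p ^ β * m - 1) := by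
      have : p ^ (β + 1) * m = p * (p ^ β * m) := by ring
      rw [this]
      obtain ⟨t, ht⟩ : ∃ t, p ^ β * m = t + 1 := ⟨p ^ β * m - 1, by omega⟩
      rw [ht]
      obtain ⟨q, hq⟩ : ∃ q, p = q + 1 := ⟨p - 1, by omega⟩
      subst hq
      simp only [Nat.add_sub_cancel]
      ring_nf
      omega
    have e2 : p ^ (β + 1) - 1 = (p - 1) + p * (p ^ β - 1) := by
      have : p ^ (β + 1) = p * p ^ β := by ring
      rw [this]
      obtain ⟨t, ht⟩ : ∃ t, p ^ β = t + 1 := ⟨p ^ β - 1, by omega⟩
      rw [ht]
      obtain ⟨q, hq⟩ : ∃ q, p = q + 1 := ⟨p - 1, by omega⟩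
      subst hq
      simp only [Nat.add_sub_cancel]
      ring_nf
      omega
    have hlt : p - 1 < p := by omega
    have m1 : (p ^ (β + 1) * m - 1) % p = p - 1 := by
      rw [e1, Nat.add_mul_mod_self_left, Nat.mod_eq_of_lt hlt]
    have d1 : (p ^ (β + 1) * m - 1) / p = p ^ β * m - 1 := by
      rw [e1, Nat.add_mul_div_left _ _ hp0, Nat.div_eq_of_lt hlt, zero_add]
    have m2 : (p ^ (β + 1) - 1) % p = p - 1 := by
      rw [e2, Nat.add_mul_mod_self_left, Nat.mod_eq_of_lt hlt]
    have d2 : (p ^ (β + 1) - 1) / p = p ^ β - 1 := by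
      rw [e2, Nat.add_mul_div_left _ _ hp0, Nat.div_eq_of_lt hlt, zero_add]
    have key := Choose.choose_modEq_choose_mod_mul_choose_div_nat (p := p)
      (n := p ^ (β + 1) * m - 1) (k := p ^ (β + 1) - 1)
    rw [m1, d1, m2, d2, Nat.choose_self, one_mul] at key
    exact key.trans ih


/-- subsets of size `k` of a group -/
def KSub (G : Type*) (k : ℕ) := {X : Finset G // X.card = k}

noncomputable instance kSubFintype (G : Type*) [Fintype G] (k : ℕ) : Fintype (KSub G k) := by
  classical
  exact inferInstanceAs (Fintype {X : Finset G // X.card = k})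

instance kSubAction (G : Type*) [Group G] [DecidableEq G] (k : ℕ) : MulAction G (KSub G k) where
  smul g X := ⟨g • X.1, by rw [Finset.card_smul_finset]; exact X.2⟩
  one_smul X := Subtype.ext (one_smul G X.1)
  mul_smul g h X := Subtype.ext (mul_smul g h X.1)

theorem kSub_smul_val {G : Type*} [Group G] [DecidableEq G] {k : ℕ} (g : G) (X : KSub G k) :
    (g • X).1 = g • X.1 := rfl

theorem kSub_stabilizer {G : Type*} [Group G] [DecidableEq G] {k : ℕ} (X : KSub G k) :
    MulAction.stabilizer G X = MulAction.stabilizer G X.1 := by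
  ext g
  rw [MulAction.mem_stabilizer_iff, MulAction.mem_stabilizer_iff]
  constructor
  · intro h; rw [← kSub_smul_val, h]
  · intro h; exact Subtype.ext h

/-- the finset of elements of a subgroup -/
noncomputable def subFin {G : Type*} [Group G] [Fintype G] (H : Subgroup G) : Finset G := by
  classical
  exact Finset.univ.filter (· ∈ H)

theorem mem_subFin {G : Type*} [Group G] [Fintype G] (H : Subgroup G) (x : G) :
    x ∈ subFin H ↔ x ∈ H := by
  classical
  simp [subFin]

theorem card_subFin {G : Type*} [Group G] [Fintype G] (H : Subgroup G) :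
    (subFin H).card = Nat.card H := by
  classical
  rw [Nat.card_eq_fintype_card, Fintype.card_subtype]
  rfl

theorem coe_subFin {G : Type*} [Group G] [Fintype G] (H : Subgroup G) :
    ((subFin H : Finset G) : Set G) = (H : Set G) := by
  ext x
  simp [mem_subFin]

theorem stabilizer_subFin {G : Type*} [Group G] [Fintype G] [DecidableEq G] (H : Subgroup G) :
    MulAction.stabilizer G (subFin H) = H := by
  rw [← MulAction.stabilizer_coe_finset, coe_subFin, MulAction.stabilizer_subgroup]

theorem stabilizer_mul_mem {G : Type*} [Group G] [DecidableEq G] (X : Finset G) {a b : G}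
    (ha : a ∈ MulAction.stabilizer G X) (hb : b ∈ X) : a * b ∈ X := by
  have h : a • X = X := ha
  have h2 : a • b ∈ a • X := Finset.smul_mem_smul_finset hb
  rw [h] at h2
  exact h2

theorem card_stabilizer_dvd {G : Type*} [Group G] [Fintype G] [DecidableEq G] (X : Finset G) :
    Nat.card (MulAction.stabilizer G X) ∣ X.card := by
  classical
  set S := MulAction.stabilizer G X with hS
  have hs : (subFin S).card = Nat.card S := card_subFin S
  have hmul : subFin S * X = X := by
    ext y
    constructor
    · intro hy
      obtain ⟨a, ha, b, hb, rfl⟩ := Finset.mem_mul.mp hy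
      exact stabilizer_mul_mem X ((mem_subFin S a).mp ha) hb
    · intro hy
      exact Finset.mem_mul.mpr ⟨1, (mem_subFin S 1).mpr (one_mem S), y, hy, one_mul y⟩
  have hdis : ((fun b => (subFin S).image fun a => a * b) '' (X : Set G)).PairwiseDisjoint id := by
    rintro A ⟨b, hb, rfl⟩ A' ⟨b', hb', rfl⟩ hne
    simp only [Function.onFun, id]
    rw [Finset.disjoint_left]
    intro z hz hz'
    apply hne
    obtain ⟨a₁, ha₁, rfl⟩ := Finset.mem_image.mp hz
    obtain ⟨a₂, ha₂, h2⟩ := Finset.mem_image.mp hz'
    rw [mem_subFin] at ha₁ ha₂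
    have hb_eq : b = a₁⁻¹ * a₂ * b' := by
      rw [mul_assoc, h2]; group
    have hb'_eq : b' = a₂⁻¹ * a₁ * b := by
      rw [mul_assoc, ← h2]; group
    ext y
    simp only [Finset.mem_image, mem_subFin]
    constructor
    · rintro ⟨a, ha, rfl⟩
      refine ⟨a * (a₁⁻¹ * a₂), S.mul_mem ha (S.mul_mem (S.inv_mem ha₁) ha₂), ?_⟩
      conv_rhs => rw [hb_eq]
      group
    · rintro ⟨a, ha, rfl⟩
      refine ⟨a * (a₂⁻¹ * a₁), S.mul_mem ha (S.mul_mem (S.inv_mem ha₂) ha₁), ?_⟩
      conv_rhs => rw [hb'_eq]
      group
  have := Finset.card_dvd_card_mul_left hdis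
  rwa [hmul, hs] at this


/-- the subset of size `k` given by a subgroup of order `k` -/
noncomputable def subK {G : Type*} [Group G] [Fintype G] (k : ℕ)
    (H : {H : Subgroup G // Nat.card H = k}) : KSub G k :=
  ⟨subFin H.1, by rw [card_subFin]; exact H.2⟩

theorem subK_injective_mod {G : Type*} [Group G] [Fintype G] [DecidableEq G] (k : ℕ)
    (H H' : {H : Subgroup G // Nat.card H = k})
    (h : MulAction.orbitRel G (KSub G k) (subK k H) (subK k H')) : H = H' := by
  rw [MulAction.orbitRel_apply, MulAction.mem_orbit_iff] at h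
  obtain ⟨g, hg⟩ := h
  have hg' : g • subFin H'.1 = subFin H.1 := congrArg Subtype.val hg
  have h1 : (1 : G) ∈ g • subFin H'.1 := by rw [hg', mem_subFin]; exact one_mem _
  rw [← Finset.inv_smul_mem_iff, smul_eq_mul, mul_one, mem_subFin] at h1
  have hgH : g ∈ H'.1 := by simpa using H'.1.inv_mem h1
  have hstab : g • subFin H'.1 = subFin H'.1 := by
    have : g ∈ MulAction.stabilizer G (subFin H'.1) := by rw [stabilizer_subFin]; exact hgH
    exact this
  rw [hstab] at hg'
  apply Subtype.ext
  ext x
  rw [← mem_subFin, ← hg', mem_subFin]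

/-- **Frobenius**: the number of subgroups of order `p ^ β` is `≡ 1 (mod p)`. -/
theorem card_subgroups_pow_modEq_one {G : Type*} [Group G] [Finite G] (p β : ℕ) [Fact p.Prime]
    (hdiv : p ^ β ∣ Nat.card G) :
    Nat.card {H : Subgroup G // Nat.card H = p ^ β} ≡ 1 [MOD p] := by
  classical
  have hp : p.Prime := Fact.out
  have : Fintype G := Fintype.ofFinite G
  obtain ⟨m, hm⟩ := hdiv
  have hG0 : 0 < Nat.card G := Nat.card_pos
  have hm0 : 0 < m := by
    rcases Nat.eq_zero_or_pos m with h | h
    · rw [h, mul_zero] at hm; omega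
    · exact h
  set k := p ^ β with hk
  have hk0 : 0 < k := pow_pos hp.pos β
  have hcardG : Fintype.card G = k * m := by rw [← Nat.card_eq_fintype_card, hm]
  -- class formula
  have hclass := MulAction.card_eq_sum_card_group_div_card_stabilizer G (KSub G k)
  have hΩ : Fintype.card (KSub G k) = (k * m).choose k := by
    have : Fintype.card (KSub G k) = Fintype.card {X : Finset G // X.card = k} := by
      apply Fintype.card_congr; exact Equiv.refl _
    rw [this, Fintype.card_finset_len, hcardG]
  -- each term
  have hterm : ∀ ω : Quotient (MulAction.orbitRel G (KSub G k)),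
      Fintype.card G / Fintype.card (MulAction.stabilizer G ω.out) ≡
        (if Nat.card (MulAction.stabilizer G ω.out) = k then m else 0) [MOD p * m] := by
    intro ω
    have hd : Nat.card (MulAction.stabilizer G ω.out) ∣ k := by
      rw [kSub_stabilizer]
      have := card_stabilizer_dvd (ω.out).1
      rwa [(ω.out).2] at this
    rw [← Nat.card_eq_fintype_card (α := MulAction.stabilizer G ω.out), hcardG]
    obtain ⟨j, hj, hjeq⟩ := (Nat.dvd_prime_pow hp).mp hd
    rw [hjeq]
    by_cases hjβ : j = β
    · subst hjβ
      rw [if_pos rfl, Nat.mul_div_cancel_left _ hk0]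
    · have hlt : j < β := lt_of_le_of_ne hj hjβ
      have hne : p ^ j ≠ k := by
        intro h
        exact hjβ (Nat.pow_right_injective hp.two_le h)
      rw [if_neg hne]
      obtain ⟨d, rfl⟩ := Nat.exists_eq_add_of_lt hlt
      have : k * m = p ^ j * (p * m * p ^ d) := by rw [hk]; ring
      rw [this, Nat.mul_div_cancel_left _ (pow_pos hp.pos j)]
      exact (Nat.modEq_zero_iff_dvd.mpr (Dvd.intro _ rfl))
  have hsum : (k * m).choose k ≡ m * (Finset.univ.filter (fun ω : Quotient (MulAction.orbitRel G (KSub G k)) =>
      Nat.card (MulAction.stabilizer G ω.out) = k)).card [MOD p * m] := by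
    rw [← hΩ, hclass]
    have h1 : (∑ ω : Quotient (MulAction.orbitRel G (KSub G k)),
        Fintype.card G / Fintype.card (MulAction.stabilizer G ω.out)) ≡
        ∑ ω : Quotient (MulAction.orbitRel G (KSub G k)),
          (if Nat.card (MulAction.stabilizer G ω.out) = k then m else 0) [MOD p * m] :=
      Nat.ModEq.sum (fun ω _ => hterm ω)
    have e : (∑ ω : Quotient (MulAction.orbitRel G (KSub G k)),
          (if Nat.card (MulAction.stabilizer G ω.out) = k then m else 0)) =
        m * (Finset.univ.filter (fun ω : Quotient (MulAction.orbitRel G (KSub G k)) =>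
          Nat.card (MulAction.stabilizer G ω.out) = k)).card := by
      rw [Finset.sum_ite, Finset.sum_const_zero, add_zero, Finset.sum_const, smul_eq_mul, mul_comm]
    rw [e] at h1
    exact h1
  -- the orbits with full stabilizer correspond to subgroups
  have hN : Nat.card {H : Subgroup G // Nat.card H = k} =
      (Finset.univ.filter (fun ω : Quotient (MulAction.orbitRel G (KSub G k)) =>
        Nat.card (MulAction.stabilizer G ω.out) = k)).card := by
    let f : {H : Subgroup G // Nat.card H = k} → Quotient (MulAction.orbitRel G (KSub G k)) :=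
      fun H => Quotient.mk'' (subK k H)
    have hinj : Function.Injective f := by
      intro H H' h
      exact subK_injective_mod k H H' (Quotient.exact' h)
    have hrange : Set.range f = ↑(Finset.univ.filter (fun ω : Quotient (MulAction.orbitRel G (KSub G k)) =>
        Nat.card (MulAction.stabilizer G ω.out) = k)) := by
      ext ω
      simp only [Set.mem_range, Finset.coe_filter, Finset.mem_univ, true_and, Set.mem_ofPred_eq]
      constructor
      · rintro ⟨H, rfl⟩
        have hrel : MulAction.orbitRel G (KSub G k) (Quotient.out (f H)) (subK k H) :=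
          Quotient.exact' (Quotient.out_eq' (f H))
        rw [Nat.card_congr (MulAction.stabilizerEquivStabilizerOfOrbitRel hrel).toEquiv,
          kSub_stabilizer]
        show Nat.card (MulAction.stabilizer G (subFin H.1)) = k
        rw [stabilizer_subFin]; exact H.2
      · intro hω
        set X := ω.out with hX
        rw [kSub_stabilizer] at hω
        set S := MulAction.stabilizer G X.1 with hS
        have hXne : X.1.Nonempty := by
          rw [← Finset.card_pos, X.2]; exact hk0
        obtain ⟨x, hx⟩ := hXne
        -- X = S x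
        have hsub : (subFin S).image (fun a => a * x) ⊆ X.1 := by
          intro y hy
          obtain ⟨a, ha, rfl⟩ := Finset.mem_image.mp hy
          exact stabilizer_mul_mem X.1 ((mem_subFin S a).mp ha) hx
        have hXeq : (subFin S).image (fun a => a * x) = X.1 := by
          apply Finset.eq_of_subset_of_card_le hsub
          rw [Finset.card_image_of_injective _ (mul_left_injective x), card_subFin, hω, X.2]
        let K : Subgroup G := S.map (MulAut.conj x⁻¹).toMonoidHom
        have hKcard : Nat.card K = k := by
          rw [Subgroup.card_map_of_injective (MulEquiv.injective _)]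
          exact hω
        refine ⟨⟨K, hKcard⟩, ?_⟩
        have hrel : MulAction.orbitRel G (KSub G k) (subK k ⟨K, hKcard⟩) X := by
          rw [MulAction.orbitRel_apply, MulAction.mem_orbit_iff]
          refine ⟨x⁻¹, ?_⟩
          apply Subtype.ext
          show x⁻¹ • X.1 = subFin K
          ext y
          rw [← Finset.inv_smul_mem_iff, inv_inv, smul_eq_mul, mem_subFin, ← hXeq]
          simp only [Finset.mem_image, mem_subFin, K, Subgroup.mem_map, MulEquiv.coe_toMonoidHom,
            MulAut.conj_apply, inv_inv]
          constructor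
          · rintro ⟨a, ha, h⟩
            refine ⟨a, ha, ?_⟩
            rw [mul_assoc, h]; group
          · rintro ⟨a, ha, h⟩
            refine ⟨a, ha, ?_⟩
            rw [← h]; group
        show Quotient.mk'' (subK k ⟨K, hKcard⟩) = ω
        rw [← Quotient.out_eq' ω]
        exact Quotient.sound' hrel
    rw [← Nat.card_range_of_injective hinj, hrange, Nat.card_coe_set_eq, Set.ncard_coe_finset]
  -- conclude
  have habs : (k * m).choose k = m * (k * m - 1).choose (k - 1) := by
    obtain ⟨n, hn⟩ : ∃ n, k * m = n + 1 := ⟨k * m - 1, by have := Nat.mul_pos hk0 hm0; omega⟩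
    obtain ⟨k', hk'⟩ : ∃ k', k = k' + 1 := ⟨k - 1, by omega⟩
    have h := Nat.add_one_mul_choose_eq n k'
    rw [hn, hk']
    simp only [Nat.add_sub_cancel]
    rw [← hn, ← hk'] at h
    have h2 : k * (m * n.choose k') = k * ((k * m).choose k) := by
      rw [← mul_assoc, h, mul_comm]
    rw [← hn, ← hk']
    exact (Nat.eq_of_mul_eq_mul_left hk0 h2).symm
  rw [habs, mul_comm p m] at hsum
  have hfin := Nat.ModEq.mul_left_cancel' hm0.ne' hsum
  rw [hN]
  exact hfin.symm.trans (choose_pred_modEq_one p β m hm0)

end Cfsg.Agent.Lib.Helper66
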